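import Cfsg.Agent.FeitHigman.Chebyshev

/-!
# Two-generator Hecke data

A pair of symmetric real matrices satisfying the quadratic relations and a braid relation of length `m`,
such that the alternating products of length at most `m` have trace zero.
-/

set_option autoImplicit false

namespace CfsgLib.FeitHigman

open Matrix Polynomial

/-- The alternating product `x y x ...` with `k` factors. -/
def altMul {R : Type*} [Monoid R] : R → R → ℕ → R
  | _, _, 0 => 1
  | x, y, k + 1 => x * altMul y x k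

theorem altMul_zero {R : Type*} [Monoid R] (x y : R) : altMul x y 0 = 1 := rfl

theorem altMul_succ {R : Type*} [Monoid R] (x y : R) (k : ℕ) : altMul x y (k + 1) = x * altMul y x k :=
  rfl

theorem altMul_one {R : Type*} [Monoid R] (x y : R) : altMul x y 1 = x := by simp [altMul]

theorem altMul_two {R : Type*} [Monoid R] (x y : R) : altMul x y 2 = x * y := by simp [altMul]

theorem altMul_add_two {R : Type*} [Monoid R] (x y : R) (k : ℕ) :
    altMul x y (k + 2) = x * (y * altMul x y k) := rfl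

theorem altMul_two_mul {R : Type*} [Monoid R] (x y : R) : ∀ l : ℕ, altMul x y (2 * l) = (x * y) ^ l
  | 0 => by simp [altMul]
  | l + 1 => by rw [show 2 * (l + 1) = 2 * l + 2 by ring, altMul_add_two, altMul_two_mul x y l, pow_succ',
      mul_assoc]

theorem altMul_two_mul_add_one {R : Type*} [Monoid R] (x y : R) : ∀ l : ℕ,
    altMul x y (2 * l + 1) = (x * y) ^ l * x
  | 0 => by simp [altMul]
  | l + 1 => by rw [show 2 * (l + 1) + 1 = (2 * l + 1) + 2 by ring, altMul_add_two,
      altMul_two_mul_add_one x y l, pow_succ', mul_assoc, mul_assoc]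

theorem altMul_two_mul_add_one' {R : Type*} [Monoid R] (x y : R) (l : ℕ) :
    altMul x y (2 * l + 1) * y = altMul x y (2 * l + 2) := by
  rw [altMul_two_mul_add_one, show 2 * l + 2 = 2 * (l + 1) by ring, altMul_two_mul, pow_succ, mul_assoc]

/-- Hecke data of rank two. -/
structure HeckePair (ι : Type*) [Fintype ι] [DecidableEq ι] where
  /-- first parameter -/
  q : ℕ
  /-- second parameter -/
  r : ℕ
  /-- the length of the braid relation -/
  m : ℕ
  /-- first generator -/
  F : Matrix ι ι ℝ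
  /-- second generator -/
  H : Matrix ι ι ℝ
  hq : 2 ≤ q
  hr : 2 ≤ r
  hm : 2 ≤ m
  F_sym : F.IsSymm
  H_sym : H.IsSymm
  F_sq : F * F = ((q : ℝ) - 1) • F + (q : ℝ) • 1
  H_sq : H * H = ((r : ℝ) - 1) • H + (r : ℝ) • 1
  braid : altMul F H m = altMul H F m
  trace_F : ∀ i, 1 ≤ i → i ≤ m → trace (altMul F H i) = 0
  trace_H : ∀ i, 1 ≤ i → i ≤ m → trace (altMul H F i) = 0

namespace HeckePair

variable {ι : Type*} [Fintype ι] [DecidableEq ι] (D : HeckePair ι)

/-- The same data with the generators exchanged. -/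
def swap : HeckePair ι :=
  ⟨D.r, D.q, D.m, D.H, D.F, D.hr, D.hq, D.hm, D.H_sym, D.F_sym, D.H_sq, D.F_sq, D.braid.symm,
    D.trace_H, D.trace_F⟩

/-- The product of the parameters. -/
noncomputable def Q : ℝ := (D.q : ℝ) * D.r

/-- The central element. -/
noncomputable def Z : Matrix ι ι ℝ :=
  D.F * D.H + D.H * D.F - ((D.q : ℝ) - 1) • D.H - ((D.r : ℝ) - 1) • D.F +
    (((D.q : ℝ) - 1) * ((D.r : ℝ) - 1)) • 1

theorem Z_swap : D.swap.Z = D.Z := by
  simp only [Z, swap]
  rw [mul_comm ((D.r : ℝ) - 1)]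
  abel

theorem Q_swap : D.swap.Q = D.Q := by simp [Q, swap, mul_comm]

theorem Q_pos : 0 < D.Q :=
  mul_pos (by exact_mod_cast (by linarith [D.hq] : 0 < D.q)) (by exact_mod_cast (by linarith [D.hr] : 0 < D.r))

theorem F_sq_left (w : Matrix ι ι ℝ) :
    D.F * (D.F * w) = ((D.q : ℝ) - 1) • (D.F * w) + (D.q : ℝ) • w := by
  rw [← mul_assoc, D.F_sq, add_mul, smul_mul_assoc, smul_mul_assoc, one_mul]

theorem H_sq_left (w : Matrix ι ι ℝ) :
    D.H * (D.H * w) = ((D.r : ℝ) - 1) • (D.H * w) + (D.r : ℝ) • w := D.swap.F_sq_left w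

theorem Z_mul_F : D.Z * D.F =
    D.F * (D.H * D.F) + (D.q : ℝ) • D.H - ((D.q : ℝ) * ((D.r : ℝ) - 1)) • 1 := by
  simp only [Z, add_mul, sub_mul, smul_mul_assoc, one_mul, mul_assoc]
  rw [D.F_sq]
  simp only [mul_add, mul_smul_comm, mul_one]
  module

theorem F_mul_Z : D.F * D.Z =
    D.F * (D.H * D.F) + (D.q : ℝ) • D.H - ((D.q : ℝ) * ((D.r : ℝ) - 1)) • 1 := by
  simp only [Z, mul_add, mul_sub, mul_smul_comm, mul_one, D.F_sq_left, D.F_sq]
  module

theorem commute_F : Commute D.Z D.F := D.Z_mul_F.trans D.F_mul_Z.symm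

theorem commute_H : Commute D.Z D.H := by
  have h := D.swap.commute_F
  rwa [Z_swap] at h

/-- Multiplication by the central element shifts alternating products by two. -/
theorem Z_mul_pair (w : Matrix ι ι ℝ) :
    D.Z * (D.F * (D.H * w)) = D.F * (D.H * (D.F * (D.H * w))) + D.Q • w := by
  simp only [Z, Q, add_mul, sub_mul, smul_mul_assoc, one_mul, mul_assoc]
  rw [D.F_sq_left]
  simp only [mul_add, mul_smul_comm, D.H_sq_left]
  module

theorem Z_mul_alt (i : ℕ) :
    D.Z * altMul D.F D.H (i + 2) = altMul D.F D.H (i + 4) + D.Q • altMul D.F D.H i :=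
  D.Z_mul_pair _

/-- The value of the `k`-th polynomial at the central element. -/
noncomputable def M (k : ℕ) : Matrix ι ι ℝ := aeval D.Z (cheb D.Q k)

theorem M_zero : D.M 0 = 0 := by simp [M, cheb_zero]

theorem M_one : D.M 1 = 1 := by simp [M, cheb_one]

theorem M_two : D.M 2 = D.Z := by simp [M, cheb_two]

theorem M_add_two (k : ℕ) : D.M (k + 2) = D.Z * D.M (k + 1) - D.Q • D.M k := by
  simp [M, cheb_add_two, Algebra.smul_def]

theorem Z_mul_M (k : ℕ) : D.Z * D.M (k + 1) = D.M (k + 2) + D.Q • D.M k := by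
  rw [M_add_two, sub_add_cancel]

theorem M_swap (k : ℕ) : D.swap.M k = D.M k := by rw [M, M, Z_swap, Q_swap]

theorem commute_aeval {A : Matrix ι ι ℝ} (h : Commute A D.Z) (p : ℝ[X]) : Commute A (aeval D.Z p) := by
  induction p using Polynomial.induction_on' with
  | add a b ha hb => rw [map_add]; exact ha.add_right hb
  | monomial n c =>
    rw [aeval_monomial]
    exact (Algebra.commute_algebraMap_right c A).mul_right (h.pow_right n)

theorem commute_M_Z (k : ℕ) : Commute D.Z (D.M k) := D.commute_aeval (Commute.refl _) _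

theorem M_mul_pair : ∀ k : ℕ,
    D.M (k + 1) * (D.F * D.H) = altMul D.F D.H (2 * k + 2) + D.Q • D.M k
  | 0 => by simp [M_one, M_zero, altMul]
  | 1 => by
    rw [M_two, M_one]
    have h := D.Z_mul_alt 0
    rwa [altMul_two, altMul_zero] at h
  | k + 2 => by
    rw [M_add_two (k := k + 1), sub_mul, smul_mul_assoc, mul_assoc, M_mul_pair (k + 1), M_mul_pair k,
      mul_add, mul_smul_comm, show 2 * (k + 1) + 2 = (2 * k + 2) + 2 by ring, D.Z_mul_alt,
      show 2 * (k + 2) + 2 = 2 * k + 2 + 4 by ring, M_add_two (k := k)]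
    simp only [smul_sub, smul_add, smul_smul]
    module

theorem M_mul_F : ∀ k : ℕ, D.M (k + 1) * D.F = altMul D.F D.H (2 * k + 1) +
    (D.q : ℝ) • (D.M k * D.H) - ((D.q : ℝ) * ((D.r : ℝ) - 1)) • D.M k
  | 0 => by simp [M_one, M_zero, altMul]
  | 1 => by
    rw [M_two, M_one, one_mul, D.Z_mul_F]
    simp [altMul]
  | k + 2 => by
    rw [M_add_two (k := k + 1), sub_mul, smul_mul_assoc, mul_assoc, M_mul_F (k + 1), M_mul_F k]
    rw [mul_sub, mul_add, mul_smul_comm, mul_smul_comm, ← mul_assoc,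
      show 2 * (k + 1) + 1 = (2 * k + 1) + 2 by ring, D.Z_mul_alt,
      show 2 * (k + 2) + 1 = 2 * k + 1 + 4 by ring, M_add_two (k := k), sub_mul, smul_mul_assoc]
    simp only [smul_sub, smul_add, smul_smul]
    module

theorem pair_sq : D.F * D.H * (D.F * D.H) = D.Z * (D.F * D.H) - D.Q • (1 : Matrix ι ι ℝ) := by
  have h := D.Z_mul_pair 1
  rw [mul_one] at h
  rw [h, mul_assoc, add_sub_cancel_right]

theorem pair_pow : ∀ l : ℕ, (D.F * D.H) ^ (l + 1) = D.M (l + 1) * (D.F * D.H) - D.Q • D.M l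
  | 0 => by simp [M_one, M_zero]
  | l + 1 => by
    rw [pow_succ, pair_pow l, sub_mul, smul_mul_assoc, mul_assoc, D.pair_sq, mul_sub, ← mul_assoc,
      mul_smul_comm, mul_one, M_add_two]
    have hc : D.M (l + 1) * D.Z = D.Z * D.M (l + 1) := (D.commute_M_Z (l + 1)).eq.symm
    rw [hc]
    rw [sub_mul, smul_mul_assoc]
    abel

end HeckePair

end CfsgLib.FeitHigman
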