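import Cfsg.Agent.FeitHigman.Multiplicity

/-!
# The arithmetical conclusion
-/

set_option autoImplicit false

namespace CfsgLib.FeitHigman

open Polynomial

/-- An irrational number is a root of at most one monic rational polynomial of degree two. -/
theorem quad_proportional {x : ℝ} (hx : Irrational x) {a b c a' b' c' : ℚ}
    (h : (a : ℝ) * x ^ 2 + b * x + c = 0) (h' : (a' : ℝ) * x ^ 2 + b' * x + c' = 0) :
    a * b' = a' * b ∧ a * c' = a' * c := by
  have h1 : ((a * b' - a' * b : ℚ) : ℝ) * x + ((a * c' - a' * c : ℚ) : ℝ) = 0 := by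
    push_cast
    linear_combination (a : ℝ) * h' - (a' : ℝ) * h
  have h2 : a * b' - a' * b = 0 := by
    by_contra h0
    refine hx ⟨-(a * c' - a' * c) / (a * b' - a' * b), ?_⟩
    have h0' : ((a * b' - a' * b : ℚ) : ℝ) ≠ 0 := by exact_mod_cast h0
    rw [Rat.cast_div, Rat.cast_neg, div_eq_iff h0']
    linarith [h1]
  refine ⟨sub_eq_zero.1 h2, sub_eq_zero.1 ?_⟩
  rw [h2, Rat.cast_zero, zero_mul, zero_add] at h1
  exact_mod_cast h1

theorem totient_le_four_odd {m : ℕ} (ho : Odd m) (h : m.totient ≤ 4) : m ∣ 15 := by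
  have hm0 : m ≠ 0 := by rintro rfl; simp at ho
  have hsub : ∀ p ∈ m.primeFactors, p = 3 ∨ p = 5 := by
    intro p hp
    obtain ⟨hpp, hdvd, -⟩ := Nat.mem_primeFactors.1 hp
    have h1 := Nat.le_of_dvd (Nat.totient_pos.2 (Nat.pos_of_ne_zero hm0)) (Nat.totient_dvd_of_dvd hdvd)
    rw [Nat.totient_prime hpp] at h1
    have h2 : p ≠ 2 := fun e => (Nat.not_even_iff_odd.2 ho) (even_iff_two_dvd.2 (e ▸ hdvd))
    have h3 := hpp.two_le
    have h4 : p ≠ 4 := fun e => by rw [e] at hpp; norm_num at hpp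
    omega
  have hsq : Squarefree m := by
    refine Nat.squarefree_iff_prime_squarefree.2 fun p hp hdvd => ?_
    have h1 := Nat.le_of_dvd (Nat.totient_pos.2 (Nat.pos_of_ne_zero hm0)) (Nat.totient_dvd_of_dvd hdvd)
    rw [← pow_two, Nat.totient_prime_pow hp two_pos] at h1
    rcases hsub p (Nat.mem_primeFactors.2 ⟨hp, (dvd_mul_right p p).trans hdvd, hm0⟩) with rfl | rfl <;>
      norm_num at h1 <;> omega
  rw [← Nat.prod_primeFactors_of_squarefree hsq, show (15 : ℕ) = ∏ p ∈ ({3, 5} : Finset ℕ), p by rfl]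
  exact Finset.prod_dvd_prod_of_subset _ _ _ fun p hp => by simpa using hsub p hp

open Real in
theorem angle_cases {l : ℕ} (hl : 2 ≤ l) {w : ℝ} (hw : 0 < w) {r₁ r₂ : ℚ}
    (h1 : (r₁ : ℝ) = 2 * w * cos (π / (l + 1))) (h2 : (r₂ : ℝ) = 2 * w * cos (2 * π / (l + 1)))
    (hw2 : ∃ Qr : ℚ, (Qr : ℝ) = w ^ 2) : l = 2 ∨ l = 3 := by
  obtain ⟨Qr, hQr⟩ := hw2
  have hl0 : (0 : ℝ) < (l : ℝ) + 1 := by positivity
  have hl3 : (3 : ℝ) ≤ (l : ℝ) + 1 := by
    have : (2 : ℝ) ≤ l := by exact_mod_cast hl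
    linarith
  set θ := π / ((l : ℝ) + 1) with hθ
  have hθ0 : 0 < θ := div_pos pi_pos hl0
  have hθ3 : θ ≤ π / 3 := div_le_div_of_nonneg_left pi_pos.le (by norm_num) hl3
  have hmul : θ * ((l : ℝ) + 1) = π := by rw [hθ]; field_simp
  rw [show 2 * π / ((l : ℝ) + 1) = 2 * θ by rw [hθ]; ring] at h2
  by_cases hr2 : r₂ = 0
  · rw [hr2, Rat.cast_zero] at h2
    have hc : cos (2 * θ) = cos (π / 2) := by
      rw [cos_pi_div_two]
      exact (mul_eq_zero.1 h2.symm).resolve_left (by positivity)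
    have := injOn_cos ⟨by linarith, by linarith [pi_pos]⟩ ⟨by positivity, by linarith [pi_pos]⟩ hc
    have h4 : π * ((l : ℝ) + 1) = π * 4 := by
      linear_combination -((l : ℝ) + 1) * 2 * this + 4 * hmul
    have := mul_left_cancel₀ pi_ne_zero h4
    right
    exact_mod_cast (by linarith : (l : ℝ) = 3)
  · left
    have hwq : (w : ℝ) = (((r₁ ^ 2 - 2 * Qr) / r₂ : ℚ) : ℝ) := by
      have hr2' : (r₂ : ℝ) ≠ 0 := by exact_mod_cast hr2
      push_cast
      rw [eq_div_iff hr2', hQr, h2, h1, cos_two_mul]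
      ring
    have hcos : ∃ t : ℚ, cos θ = t := ⟨r₁ / (2 * ((r₁ ^ 2 - 2 * Qr) / r₂)), by
      rw [Rat.cast_div, Rat.cast_mul, ← hwq, h1]
      push_cast
      field_simp⟩
    have hθrat : ∃ t : ℚ, θ = t * π := ⟨1 / ((l : ℚ) + 1), by push_cast; rw [hθ]; ring⟩
    have hn := niven hθrat hcos
    have hge : 1 / 2 ≤ cos θ := by
      rw [← cos_pi_div_three]
      exact cos_le_cos_of_nonneg_of_le_pi hθ0.le (by linarith [pi_pos]) hθ3
    have hlt : cos θ < 1 := by
      rw [← cos_zero]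
      exact cos_lt_cos_of_nonneg_of_le_pi le_rfl (by linarith [pi_pos]) hθ0
    have hc : cos θ = cos (π / 3) := by
      rw [cos_pi_div_three]
      simp only [Set.mem_insert_iff, Set.mem_singleton_iff] at hn
      rcases hn with h | h | h | h | h <;> linarith
    have := injOn_cos ⟨hθ0.le, by linarith [pi_pos]⟩ ⟨by positivity, by linarith [pi_pos]⟩ hc
    have h4 : π * ((l : ℝ) + 1) = π * 3 := by
      linear_combination -((l : ℝ) + 1) * 3 * this + 3 * hmul
    have := mul_left_cancel₀ pi_ne_zero h4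
    exact_mod_cast (by linarith : (l : ℝ) = 2)

namespace HeckePair

variable {ι : Type*} [Fintype ι] [DecidableEq ι] [Nonempty ι] (D : HeckePair ι)

theorem lin_coeff_ne : ((D.Q + 1) - ((D.q : ℝ) + D.r)) ≠ 0 := by
  have hq : (2 : ℝ) ≤ D.q := by exact_mod_cast D.hq
  have hr : (2 : ℝ) ≤ D.r := by exact_mod_cast D.hr
  simp only [Q]
  nlinarith

theorem linPoly_eval (x : ℝ) : D.linPoly.eval x =
    x ^ 2 - ((D.Q + 1) - ((D.q : ℝ) + D.r)) * x - (D.Q + 1) * ((D.q : ℝ) + D.r) := by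
  simp [linPoly]; ring

/-- The rational quadratic satisfied by a root. -/
theorem quad_of_mult {x : ℝ}
    (h : (D.mult x : ℝ) * D.m * D.linPoly.eval x = 2 * Fintype.card ι * (x ^ 2 - 4 * D.Q)) :
    ((((D.mult x * D.m : ℕ) : ℚ) - 2 * Fintype.card ι : ℚ) : ℝ) * x ^ 2 +
      ((-(((D.mult x * D.m : ℕ) : ℚ) * (((D.q : ℚ) * D.r + 1) - ((D.q : ℚ) + D.r)))) : ℚ) * x +
      ((8 * Fintype.card ι * ((D.q : ℚ) * D.r) -
        ((D.mult x * D.m : ℕ) : ℚ) * (((D.q : ℚ) * D.r + 1) * ((D.q : ℚ) + D.r))) : ℚ) = 0 := by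
  rw [linPoly_eval] at h
  simp only [Q] at h
  push_cast
  linear_combination h

/-- For even `m` every root is rational. -/
theorem rational_root {x : ℝ} (hN : x ^ 2 ≠ 4 * D.Q)
    (h : (D.mult x : ℝ) * D.m * D.linPoly.eval x = 2 * Fintype.card ι * (x ^ 2 - 4 * D.Q))
    (h' : (D.mult (-x) : ℝ) * D.m * D.linPoly.eval (-x) =
      2 * Fintype.card ι * ((-x) ^ 2 - 4 * D.Q)) : ∃ t : ℚ, (t : ℝ) = x := by
  by_contra hirr
  have hx : Irrational x := fun ⟨t, ht⟩ => hirr ⟨t, ht⟩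
  have hq := D.quad_of_mult h
  have hq' := D.quad_of_mult h'
  set N : ℚ := ((Fintype.card ι : ℕ) : ℚ) with hNdef
  set c : ℚ := ((D.mult x * D.m : ℕ) : ℚ)
  set c' : ℚ := ((D.mult (-x) * D.m : ℕ) : ℚ)
  set s : ℚ := ((D.q : ℚ) * D.r + 1) - ((D.q : ℚ) + D.r) with hs
  set Qq : ℚ := (D.q : ℚ) * D.r with hQq
  set p : ℚ := (Qq + 1) * ((D.q : ℚ) + D.r) with hp
  have hN0 : (0 : ℚ) < N := by rw [hNdef]; exact_mod_cast Fintype.card_pos
  have hq2 : (2 : ℚ) ≤ D.q := by exact_mod_cast D.hq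
  have hr2 : (2 : ℚ) ≤ D.r := by exact_mod_cast D.hr
  have hs0 : 0 < s := by rw [hs]; nlinarith
  have hp4 : 4 * Qq < p := by rw [hp, hQq]; nlinarith
  have hq'' : ((c' - 2 * N : ℚ) : ℝ) * x ^ 2 + ((c' * s : ℚ) : ℝ) * x + ((8 * N * Qq - c' * p : ℚ) : ℝ) = 0 := by
    push_cast at hq' ⊢
    linear_combination hq'
  obtain ⟨h1, h2⟩ := quad_proportional hx hq hq''
  have hcc : c = c' := by
    have : (c' - c) * (2 * N * (4 * Qq - p)) = 0 := by linear_combination -h2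
    rcases mul_eq_zero.1 this with e | e
    · linarith
    · nlinarith
  rw [← hcc] at h1
  have hc0 : c ≠ 0 := by
    intro h0
    apply hN
    rw [h0] at hq
    push_cast at hq
    simp only [hQq, Rat.cast_mul, Rat.cast_natCast] at hq
    have hN' : (N : ℝ) ≠ 0 := by exact_mod_cast hN0.ne'
    have : (2 * (N : ℝ)) * (x ^ 2 - 4 * D.Q) = 0 := by simp only [Q]; linear_combination -hq
    linarith [(mul_eq_zero.1 this).resolve_left (by positivity)]
  have hc2 : c = 2 * N := by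
    have : (c - 2 * N) * (2 * c * s) = 0 := by linear_combination h1
    exact sub_eq_zero.1 ((mul_eq_zero.1 this).resolve_right (by positivity))
  rw [hc2, sub_self, Rat.cast_zero, zero_mul, zero_add] at hq
  refine hx ⟨(8 * N * Qq - 2 * N * p) / (2 * N * s), ?_⟩
  have hd : ((2 * N * s : ℚ) : ℝ) ≠ 0 := by exact_mod_cast (by positivity : (2 * N * s : ℚ) ≠ 0)
  rw [Rat.cast_div, div_eq_iff hd]
  push_cast at hq ⊢
  linear_combination hq

theorem even_case {l : ℕ} (hm : D.m = 2 * (l + 1)) (hl : 2 ≤ l) : l = 2 ∨ l = 3 := by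
  set w := Real.sqrt D.Q with hw
  have hw0 : 0 < w := Real.sqrt_pos.2 D.Q_pos
  have hQ : D.Q = w ^ 2 := (Real.sq_sqrt D.Q_pos.le).symm
  have hroot : ∀ j : ℕ, 1 ≤ j → j ≤ l →
      ∃ t : ℚ, (t : ℝ) = 2 * w * Real.cos (j * Real.pi / ((l : ℝ) + 1)) := by
    intro j hj1 hjl
    set θ := (j : ℝ) * Real.pi / ((l : ℝ) + 1) with hθ
    have hj : (0 : ℝ) < j := by exact_mod_cast hj1
    have hjl' : (j : ℝ) < (l : ℝ) + 1 := by
      have : (j : ℝ) ≤ l := by exact_mod_cast hjl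
      linarith
    have hθ0 : 0 < θ := by rw [hθ]; positivity
    have hθπ : θ < Real.pi := by
      rw [hθ, div_lt_iff₀ (by positivity)]
      nlinarith [Real.pi_pos]
    have hsin : Real.sin θ ≠ 0 := (Real.sin_pos_of_pos_of_lt_pi hθ0 hθπ).ne'
    have hz : (cheb D.Q (l + 1)).eval (2 * w * Real.cos θ) = 0 := by
      have h := cheb_eval_cos w θ (l + 1)
      rw [show ((l + 1 : ℕ) : ℝ) * θ = j * Real.pi by rw [hθ]; push_cast; field_simp, Real.sin_nat_mul_pi,
        mul_zero, ← hQ] at h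
      exact (mul_eq_zero.1 h).resolve_right (mul_ne_zero hw0.ne' hsin)
    refine D.rational_root ?_ (D.mult_even hm (by omega) hz)
      (D.mult_even hm (by omega) (by rw [cheb_eval_neg, hz, mul_zero]))
    rw [hQ]
    intro h
    have h1 : 4 * w ^ 2 * Real.sin θ ^ 2 = 0 := by rw [Real.sin_sq]; linear_combination -h
    exact hsin (pow_eq_zero_iff two_ne_zero |>.1 ((mul_eq_zero.1 h1).resolve_left (by positivity)))
  obtain ⟨r1, hr1⟩ := hroot 1 le_rfl (by omega)
  obtain ⟨r2, hr2⟩ := hroot 2 (by omega) hl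
  rw [Nat.cast_one, one_mul] at hr1
  rw [Nat.cast_two] at hr2
  exact angle_cases hl hw0 hr1 hr2 ⟨(D.q : ℚ) * D.r, by rw [← hQ]; simp [Q]⟩

theorem odd_case {l : ℕ} (hm : D.m = 2 * (l + 1) + 1) : l = 0 := by
  have hqr : D.q = D.r := D.q_eq_r hm
  set q : ℝ := (D.q : ℝ) with hq
  have hq0 : 0 < q := by rw [hq]; exact_mod_cast (by have := D.hq; omega : 0 < D.q)
  have hQ : D.Q = q ^ 2 := by rw [Q, ← hqr]; ring
  set θ := 2 * Real.pi / (D.m : ℝ) with hθ
  have hm3 : (3 : ℝ) ≤ D.m := by exact_mod_cast (by omega : 3 ≤ D.m)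
  have hθ0 : 0 < θ := by rw [hθ]; positivity
  have hθπ : θ < Real.pi := by
    rw [hθ, div_lt_iff₀ (by linarith)]
    nlinarith [Real.pi_pos]
  have hsin : 0 < Real.sin θ := Real.sin_pos_of_pos_of_lt_pi hθ0 hθπ
  set x := 2 * q * Real.cos θ with hx
  have hroot : (cheb D.Q (l + 2)).eval x + q * (cheb D.Q (l + 1)).eval x = 0 := by
    have h1 := cheb_eval_cos q θ (l + 2)
    have h2 := cheb_eval_cos q θ (l + 1)
    have hs : Real.sin (((l + 2 : ℕ) : ℝ) * θ) = -Real.sin (((l + 1 : ℕ) : ℝ) * θ) := by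
      have : ((l + 2 : ℕ) : ℝ) * θ = 2 * Real.pi - ((l + 1 : ℕ) : ℝ) * θ := by
        have hmm : (D.m : ℝ) = 2 * (l + 1) + 1 := by exact_mod_cast hm
        rw [hθ]
        push_cast
        field_simp
        rw [hmm]
        ring
      rw [this, Real.sin_two_pi_sub]
    rw [← hQ, hs] at h1
    rw [← hQ] at h2
    have : ((cheb D.Q (l + 2)).eval x + q * (cheb D.Q (l + 1)).eval x) * (q * Real.sin θ) = 0 := by
      linear_combination h1 + q * h2
    exact (mul_eq_zero.1 this).resolve_right (mul_ne_zero hq0.ne' hsin.ne')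
  have hcos1 : -1 < Real.cos θ := by
    rw [← Real.cos_pi]
    exact Real.cos_lt_cos_of_nonneg_of_le_pi hθ0.le le_rfl hθπ
  have hx2 : x + 2 * q ≠ 0 := by rw [hx]; nlinarith
  have hmult := D.mult_odd hm hqr hroot hx2
  have hquad := D.quad_of_mult hmult
  have hN0 : (0 : ℚ) < Fintype.card ι := by exact_mod_cast Fintype.card_pos
  have hlin : (D.q : ℚ) * D.r + 1 - ((D.q : ℚ) + D.r) ≠ 0 := by
    have h := D.lin_coeff_ne
    simp only [Q] at h
    exact_mod_cast h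
  set a : ℚ := ((D.mult x * D.m : ℕ) : ℚ) - 2 * Fintype.card ι with ha
  set b : ℚ := -(((D.mult x * D.m : ℕ) : ℚ) * (((D.q : ℚ) * D.r + 1) - ((D.q : ℚ) + D.r))) with hb
  set c : ℚ := 8 * Fintype.card ι * ((D.q : ℚ) * D.r) -
    ((D.mult x * D.m : ℕ) : ℚ) * (((D.q : ℚ) * D.r + 1) * ((D.q : ℚ) + D.r))
  -- the totient of `m` is at most four
  have htot : D.m.totient ≤ 4 := by
    set ζ : ℂ := Complex.exp (2 * Real.pi * Complex.I / D.m) with hζ
    have hprim : IsPrimitiveRoot ζ D.m := Complex.isPrimitiveRoot_exp D.m (by omega)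
    have hζexp : ζ = Complex.exp (θ * Complex.I) := by
      rw [hζ, hθ]; push_cast; ring_nf
    set G : ℚ[X] := C (a * (D.q : ℚ) ^ 2) * (X ^ 2 + 1) ^ 2 + C (b * (D.q : ℚ)) * (X * (X ^ 2 + 1)) +
      C c * X ^ 2 with hG
    have hxζ : (x : ℂ) * ζ = (q : ℂ) * (ζ ^ 2 + 1) := by
      have h1 := Complex.two_cos (θ : ℂ)
      rw [hx, hζexp, Complex.ofReal_mul, Complex.ofReal_mul, Complex.ofReal_cos, Complex.ofReal_ofNat]
      rw [mul_right_comm (2 : ℂ), h1, neg_mul, Complex.exp_neg]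
      field_simp
    have hev : aeval ζ G = 0 := by
      have h0 : ((a : ℝ) : ℂ) * (x : ℂ) ^ 2 + ((b : ℝ) : ℂ) * x + ((c : ℝ) : ℂ) = 0 := by
        exact_mod_cast congrArg (fun r : ℝ => (r : ℂ)) hquad
      simp only [hG, map_add, map_mul, map_pow, aeval_X, aeval_C, map_one, map_natCast,
        eq_ratCast, Complex.ofReal_ratCast] at h0 ⊢
      have hq' : (q : ℂ) = (D.q : ℂ) := by rw [hq]; simp
      rw [hq'] at hxζ
      linear_combination ζ ^ 2 * h0 - ((a : ℂ) * (x * ζ + (D.q : ℂ) * (ζ ^ 2 + 1)) + (b : ℂ) * ζ) * hxζ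
    have hG0 : G ≠ 0 := by
      intro h0
      have h4 := congrArg (fun p : ℚ[X] => p.coeff 4) h0
      have h3 := congrArg (fun p : ℚ[X] => p.coeff 3) h0
      have hexp : (X ^ 2 + 1 : ℚ[X]) ^ 2 = X ^ 4 + C 2 * X ^ 2 + 1 := by rw [C_ofNat]; ring
      have hexp' : X * (X ^ 2 + 1 : ℚ[X]) = X ^ 3 + X ^ 1 := by ring
      simp only [hG, hexp, hexp', coeff_add, coeff_C_mul, coeff_X_pow, coeff_one, coeff_zero] at h4 h3
      norm_num at h4 h3
      have hqne : (D.q : ℚ) ≠ 0 := by exact_mod_cast (by have := D.hq; omega : D.q ≠ 0)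
      have ha0 : a = 0 := (h4.resolve_right (by have := D.hq; omega))
      have hb0 : b = 0 := (h3.resolve_right (by have := D.hq; omega))
      rw [hb, neg_eq_zero] at hb0
      rw [ha, (mul_eq_zero.1 hb0).resolve_right hlin] at ha0
      linarith
    have hle := minpoly.degree_le_of_ne_zero ℚ ζ hG0 hev
    rw [← Polynomial.cyclotomic_eq_minpoly_rat hprim (by omega), Polynomial.degree_cyclotomic] at hle
    have hdeg : G.degree ≤ 4 := by
      rw [hG]
      compute_degree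
    exact_mod_cast hle.trans hdeg
  have h15 := totient_le_four_odd ⟨l + 1, hm⟩ htot
  have hm15 : D.m ∈ Nat.divisors 15 := Nat.mem_divisors.2 ⟨h15, by norm_num⟩
  have hcases : D.m = 1 ∨ D.m = 3 ∨ D.m = 5 ∨ D.m = 15 := by
    rw [show Nat.divisors 15 = {1, 3, 5, 15} by decide] at hm15
    simpa using hm15
  rcases hcases with h | h | h | h
  · omega
  · omega
  · exfalso
    obtain rfl : l = 1 := by omega
    have hx5 : x ^ 2 + q * x - q ^ 2 = 0 := by
      have := hroot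
      rw [eval_cheb_add_two, cheb_two, cheb_one, eval_X, eval_one, hQ] at this
      linear_combination this
    have hirr : Irrational x := by
      rintro ⟨t, ht⟩
      refine Nat.Prime.irrational_sqrt (p := 5) (by norm_num) ?_
      refine ⟨|2 * t + (D.q : ℚ)| / (D.q : ℚ), ?_⟩
      rw [← ht] at hx5
      push_cast
      rw [div_eq_iff hq0.ne', ← hq]
      have h5 : (2 * (t : ℝ) + q) ^ 2 = 5 * q ^ 2 := by linear_combination 4 * hx5
      rw [← Real.sqrt_sq_eq_abs, h5, Real.sqrt_mul (by norm_num), Real.sqrt_sq hq0.le]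
    have h5' : ((1 : ℚ) : ℝ) * x ^ 2 + ((D.q : ℚ) : ℝ) * x + ((-(D.q : ℚ) ^ 2 : ℚ) : ℝ) = 0 := by
      push_cast
      linear_combination hx5
    obtain ⟨e1, e2⟩ := quad_proportional hirr hquad h5'
    rw [one_mul] at e1 e2
    simp only [ha, hb, c, ← hqr] at e1 e2
    set k : ℚ := ((D.mult x * D.m : ℕ) : ℚ)
    set Q' : ℚ := (D.q : ℚ)
    have hQ2 : (2 : ℚ) ≤ Q' := (Nat.ofNat_le_cast).2 D.hq
    have : k * Q' * (Q' - 1) ^ 2 = 0 := by linear_combination -e2 + 3 * Q' * e1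
    have hk : k = 0 := by
      rcases mul_eq_zero.1 this with h | h
      · exact (mul_eq_zero.1 h).resolve_right (by linarith)
      · nlinarith
    rw [hk] at e1
    nlinarith
  · rw [h] at htot
    exact absurd htot (by decide)

/-- The Feit–Higman conclusion. -/
theorem m_mem : D.m ∈ ({2, 3, 4, 6, 8} : Set ℕ) := by
  have hm := D.hm
  simp only [Set.mem_insert_iff, Set.mem_singleton_iff]
  rcases Nat.even_or_odd D.m with ⟨k, hk⟩ | ⟨k, hk⟩
  · obtain ⟨l, rfl⟩ : ∃ l, k = l + 1 := ⟨k - 1, by omega⟩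
    by_cases hl : 2 ≤ l
    · have := D.even_case (l := l) (by omega) hl
      omega
    · omega
  · obtain ⟨l, rfl⟩ : ∃ l, k = l + 1 := ⟨k - 1, by omega⟩
    have := D.odd_case (l := l) (by omega)
    omega

end HeckePair

end CfsgLib.FeitHigman
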