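import Cfsg.Agent.FeitHigman.Arith
import Cfsg.Agent.BNPairs.Coxeter

/-!
# The Hecke matrices of a finite Tits system of rank two
-/

set_option autoImplicit false
set_option linter.unusedSectionVars false

namespace CfsgLib.FeitHigman

open Matrix Finset CfsgLib.BNPairs

variable {G : Type*} [Group G] [Finite G] {P : Cfsg.BNPair G}

/-- The coset space of the Borel subgroup. -/
abbrev Chambers (P : Cfsg.BNPair G) : Type _ := G ⧸ P.B

/-- The adjacency relation attached to a cell. -/
def Adj (n : G) (x y : Chambers P) : Prop := (x.out⁻¹ * y.out) ∈ cell P n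

theorem adj_mk (n g h : G) : Adj (P := P) n (g : Chambers P) (h : Chambers P) ↔ g⁻¹ * h ∈ cell P n := by
  obtain ⟨b, hb⟩ := QuotientGroup.mk_out_eq_mul P.B g
  obtain ⟨c, hc⟩ := QuotientGroup.mk_out_eq_mul P.B h
  rw [Adj, hb, hc, show (g * (b : G))⁻¹ * (h * (c : G)) = (b : G)⁻¹ * (g⁻¹ * h) * c by group]
  refine ⟨fun hh => ?_, fun hh => mul_mem_cell (inv_mem b.2) c.2 hh⟩
  have := mul_mem_cell b.2 (inv_mem c.2) hh
  rwa [show (b : G) * ((b : G)⁻¹ * (g⁻¹ * h) * c) * (c : G)⁻¹ = g⁻¹ * h by group] at this

open scoped Classical in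
/-- The matrix of a cell. -/
noncomputable def cellMat (P : Cfsg.BNPair G) (n : G) : Matrix (Chambers P) (Chambers P) ℝ :=
  Matrix.of fun x y => if Adj n x y then 1 else 0

open scoped Classical in
theorem cellMat_apply (n : G) (x y : Chambers P) :
    cellMat P n x y = if Adj n x y then 1 else 0 := rfl

theorem adj_comm {s : G} (hs : s ∈ P.S) (x y : Chambers P) : Adj s x y ↔ Adj s y x := by
  suffices h : ∀ x y : Chambers P, Adj s x y → Adj s y x from ⟨h x y, h y x⟩
  intro x y h
  have h1 := inv_mem_cell h
  rw [_root_.mul_inv_rev, inv_inv, ← cell_eq_of_rel (rel_inv_self hs)] at h1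
  exact h1

theorem cellMat_isSymm {s : G} (hs : s ∈ P.S) : (cellMat P s).IsSymm := by
  ext x y
  classical
  simp only [transpose_apply, cellMat_apply, adj_comm hs x y]

theorem adj_one (x y : Chambers P) : Adj (P := P) 1 x y ↔ x = y := by
  induction x using QuotientGroup.induction_on with | _ g =>
  induction y using QuotientGroup.induction_on with | _ h =>
  rw [adj_mk, QuotientGroup.eq]
  refine ⟨mem_B_of_mem_cell (one_mem _), fun hh => mem_cell.2 ⟨g⁻¹ * h, hh, 1, one_mem _, by simp⟩⟩

theorem cellMat_one [DecidableEq (Chambers P)] : cellMat P 1 = 1 := by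
  ext x y
  classical
  rw [cellMat_apply, Matrix.one_apply]
  simp only [adj_one]

variable [Fintype (Chambers P)] [DecidableEq (Chambers P)]

open scoped Classical in
theorem mul_apply_card (n s : G) (x y : Chambers P) :
    (cellMat P n * cellMat P s) x y =
      ((univ.filter fun z : Chambers P => Adj n x z ∧ Adj s z y).card : ℝ) := by
  rw [Matrix.mul_apply, ← sum_boole]
  refine sum_congr rfl fun z _ => ?_
  simp only [cellMat_apply]
  split_ifs <;> simp_all

/-- The product of two neighbours of `y` across `s` lies in `B ∪ B s B`. -/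
theorem adj_triangle {s : G} (hs : s ∈ P.S) {x y z : Chambers P} (hxz : Adj s x z) (hzy : Adj s z y) :
    x = y ∨ Adj s x y := by
  induction x using QuotientGroup.induction_on with | _ a =>
  induction y using QuotientGroup.induction_on with | _ b =>
  induction z using QuotientGroup.induction_on with | _ c =>
  rw [adj_mk] at hxz hzy
  obtain ⟨u, hu, u', hu', e⟩ := mem_cell.1 hxz
  have h1 := left_mul_cell hs (P.subset hs) (mem_cell_left hu' hzy)
  have e2 : a⁻¹ * b = u * (s * (u' * (c⁻¹ * b))) := by
    calc a⁻¹ * b = (a⁻¹ * c) * (c⁻¹ * b) := by group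
      _ = _ := by rw [e]; group
  rcases h1 with h1 | h1
  · left
    rw [QuotientGroup.eq, e2]
    exact mul_mem hu (mem_B_of_mem_cell (P.sq_mem s hs) h1)
  · right
    rw [adj_mk, e2]
    exact mem_cell_left hu h1

/-- Multiplying by a cell matrix of a lengthening generator. -/
theorem cellMat_mul_of_lt {s n : G} (hs : s ∈ P.S) (hn : n ∈ P.N) (hlen : len P n < len P (s * n)) :
    cellMat P s * cellMat P n = cellMat P (s * n) := by
  classical
  ext x y
  rw [mul_apply_card, cellMat_apply]
  have hsn := mul_mem (P.subset hs) hn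
  have hmem : ∀ z, Adj s x z → Adj n z y → Adj (s * n) x y := by
    intro z
    induction x using QuotientGroup.induction_on with | _ a =>
    induction y using QuotientGroup.induction_on with | _ b =>
    induction z using QuotientGroup.induction_on with | _ c =>
    rw [adj_mk, adj_mk, adj_mk]
    intro h1 h2
    obtain ⟨u, hu, u', hu', e⟩ := mem_cell.1 h1
    obtain ⟨v, hv, v', hv', e'⟩ := mem_cell.1 h2
    rw [show a⁻¹ * b = u * (s * (u' * v) * n) * v' by
      calc a⁻¹ * b = (a⁻¹ * c) * (c⁻¹ * b) := by group
        _ = _ := by rw [e, e']; group]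
    exact mul_mem_cell hu hv' (cell_mul_of_le hs hn (mul_mem hu' hv) hlen.le)
  by_cases h : Adj (s * n) x y
  · rw [if_pos h, Nat.cast_eq_one, card_eq_one]
    obtain ⟨z, hz1, hz2⟩ : ∃ z, Adj s x z ∧ Adj n z y := by
      induction x using QuotientGroup.induction_on with | _ a =>
      induction y using QuotientGroup.induction_on with | _ b =>
      rw [adj_mk] at h
      obtain ⟨u, hu, v, hv, e⟩ := mem_cell.1 h
      refine ⟨((a * (u * s) : G) : Chambers P), ?_, ?_⟩ <;> rw [adj_mk]
      · rw [inv_mul_cancel_left]; exact mem_cell_left hu (self_mem_cell s)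
      · rw [show (a * (u * s))⁻¹ * b = s⁻¹ * (u⁻¹ * (a⁻¹ * b)) by group, e,
          show s⁻¹ * (u⁻¹ * (u * (s * n) * v)) = n * v by group]
        exact mem_cell_right hv (self_mem_cell n)
    refine ⟨z, eq_singleton_iff_unique_mem.2 ⟨by simp [hz1, hz2], fun z' hz' => ?_⟩⟩
    obtain ⟨h1, h2⟩ := (mem_filter.1 hz').2
    by_contra hne
    rcases adj_triangle hs ((adj_comm hs x z').1 h1) hz1 with e | e
    · exact hne e
    · have h3 : Adj (s * n) z' y := by
        induction y using QuotientGroup.induction_on with | _ b =>
        induction z using QuotientGroup.induction_on with | _ c =>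
        induction z' using QuotientGroup.induction_on with | _ c' =>
        rw [adj_mk] at e hz2 ⊢
        obtain ⟨u, hu, u', hu', e1⟩ := mem_cell.1 e
        obtain ⟨v, hv, v', hv', e2⟩ := mem_cell.1 hz2
        rw [show c'⁻¹ * b = u * (s * (u' * v) * n) * v' by
          calc c'⁻¹ * b = (c'⁻¹ * c) * (c⁻¹ * b) := by group
            _ = _ := by rw [e1, e2]; group]
        exact mul_mem_cell hu hv' (cell_mul_of_le hs hn (mul_mem hu' hv) hlen.le)
      have := rel_of_mem_cell hn hsn h2 h3
      exact absurd (len_eq_of_rel hn hsn this) hlen.ne'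
  · rw [if_neg h, Nat.cast_eq_zero, card_eq_zero, filter_eq_empty_iff]
    exact fun z _ hz => h (hmem z hz.1 hz.2)

theorem trace_cellMat {n : G} (hn : n ∈ P.N) (hlen : 0 < len P n) : trace (cellMat P n) = 0 := by
  classical
  refine Finset.sum_eq_zero fun x _ => ?_
  rw [diag_apply, cellMat_apply, if_neg]
  intro h
  rw [Adj, inv_mul_cancel] at h
  have := rel_of_mem_cell (one_mem _) hn (self_mem_cell 1) h
  rw [inv_one, one_mul] at this
  rw [(len_eq_zero hn).2 this] at hlen
  omega

open scoped Classical in
/-- The parameter of a generator. -/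
noncomputable def param (P : Cfsg.BNPair G) [Fintype (Chambers P)] (s : G) : ℕ :=
  (univ.filter fun z : Chambers P => Adj s ((1 : G) : Chambers P) z).card

open scoped Classical in
theorem card_adj (s : G) (x : Chambers P) :
    (univ.filter fun z => Adj s x z).card = param P s := by
  induction x using QuotientGroup.induction_on with | _ a =>
  refine (card_bij' (fun z _ => a • z) (fun z _ => a⁻¹ • z) ?_ ?_ ?_ ?_).symm
  · intro z
    induction z using QuotientGroup.induction_on with | _ b =>
    simp [adj_mk, MulAction.Quotient.smul_coe]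
  · intro z
    induction z using QuotientGroup.induction_on with | _ b =>
    simp [adj_mk, MulAction.Quotient.smul_coe]
  · simp
  · simp

theorem two_le_param {s : G} (hs : s ∈ P.S) : 2 ≤ param P s := by
  classical
  obtain ⟨b, hb, hbs⟩ := exists_conj_not_mem hs
  refine Finset.one_lt_card.2 ⟨((s : G) : Chambers P), ?_, ((b * s : G) : Chambers P), ?_, ?_⟩
  · simpa [adj_mk] using self_mem_cell (P := P) s
  · simp only [mem_filter, mem_univ, true_and, adj_mk, inv_one, one_mul]
    exact mem_cell_left hb (self_mem_cell s)
  · rw [Ne, QuotientGroup.eq]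
    intro h
    apply hbs
    rw [show s * b * s = (s * s) * (s⁻¹ * (b * s)) by group]
    exact mul_mem (P.sq_mem s hs) h

/-- The quadratic relation. -/
theorem cellMat_sq {s : G} (hs : s ∈ P.S) : cellMat P s * cellMat P s =
    ((param P s : ℝ) - 1) • cellMat P s + (param P s : ℝ) • 1 := by
  classical
  ext x y
  rw [mul_apply_card]
  simp only [Matrix.add_apply, Matrix.smul_apply, cellMat_apply, Matrix.one_apply, smul_eq_mul]
  by_cases hxy : x = y
  · subst hxy
    have hnot : ¬ Adj s x x := by
      intro h
      rw [Adj, inv_mul_cancel] at h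
      have := rel_of_mem_cell (one_mem _) (P.subset hs) (self_mem_cell 1) h
      exact not_mem_B_of_mem_S hs (by simpa using this)
    rw [if_neg hnot, if_pos rfl, mul_zero, zero_add, mul_one, Nat.cast_inj, ← card_adj s x]
    congr 1
    ext z
    simp only [mem_filter, mem_univ, true_and]
    exact ⟨fun h => h.1, fun h => ⟨h, (adj_comm hs x z).1 h⟩⟩
  · rw [if_neg hxy, mul_zero, add_zero]
    by_cases h : Adj s x y
    · rw [if_pos h, mul_one]
      have he : (univ.filter fun z => Adj s x z ∧ Adj s z y) =
          (univ.filter fun z => Adj s x z).erase y := by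
        ext z
        simp only [mem_filter, mem_univ, true_and, mem_erase]
        constructor
        · rintro ⟨h1, h2⟩
          refine ⟨fun e => ?_, h1⟩
          subst e
          rw [Adj, inv_mul_cancel] at h2
          have := rel_of_mem_cell (one_mem _) (P.subset hs) (self_mem_cell 1) h2
          exact not_mem_B_of_mem_S hs (by simpa using this)
        · rintro ⟨hne, h1⟩
          exact ⟨h1, (adj_triangle hs ((adj_comm hs x z).1 h1) h).resolve_left hne⟩
      rw [he, card_erase_of_mem (by simpa using h), card_adj, Nat.cast_sub (by have := two_le_param hs; omega)]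
      norm_num
    · rw [if_neg h, mul_zero, Nat.cast_eq_zero, card_eq_zero, filter_eq_empty_iff]
      exact fun z _ hz => (adj_triangle hs hz.1 hz.2).elim hxy h

end CfsgLib.FeitHigman
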