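import Mathlib

/-!
# The polynomials `U₀ = 0`, `U₁ = 1`, `Uₙ₊₂ = X Uₙ₊₁ - Q Uₙ`

These are the Chebyshev polynomials of the second kind scaled to the interval `[-2√Q, 2√Q]`. They are the
orthogonal polynomials behind the multiplicity formula in the Feit–Higman theorem.
-/

set_option autoImplicit false

namespace CfsgLib.FeitHigman

open Polynomial Finset

variable (Q : ℝ)

/-- The scaled Chebyshev polynomials of the second kind. -/
noncomputable def cheb : ℕ → ℝ[X]
  | 0 => 0
  | 1 => 1
  | n + 2 => X * cheb (n + 1) - C Q * cheb n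

theorem cheb_zero : cheb Q 0 = 0 := rfl

theorem cheb_one : cheb Q 1 = 1 := rfl

theorem cheb_add_two (n : ℕ) : cheb Q (n + 2) = X * cheb Q (n + 1) - C Q * cheb Q n := rfl

theorem cheb_two : cheb Q 2 = X := by simp [cheb]

theorem eval_cheb_add_two (n : ℕ) (x : ℝ) :
    (cheb Q (n + 2)).eval x = x * (cheb Q (n + 1)).eval x - Q * (cheb Q n).eval x := by
  simp [cheb_add_two]

/-- The kernel: the quotient of `Uₙ₊₁(e) - Uₙ₊₁(x)` by `e - x`. -/
noncomputable def kern (n : ℕ) (e x : ℝ) : ℝ :=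
  ∑ i ∈ range n, (cheb Q (i + 1)).eval e * (cheb Q (n - i)).eval x

theorem kern_zero (e x : ℝ) : kern Q 0 e x = 0 := rfl

theorem kern_one (e x : ℝ) : kern Q 1 e x = 1 := by simp [kern, cheb_one]

theorem kern_add_two (n : ℕ) (e x : ℝ) :
    kern Q (n + 2) e x = (cheb Q (n + 2)).eval e + x * kern Q (n + 1) e x - Q * kern Q n e x := by
  simp only [kern]
  rw [sum_range_succ, show n + 2 - (n + 1) = 1 by omega, sum_range_succ, sum_range_succ _ n,
    show n + 2 - n = 2 by omega, show n + 1 - n = 1 by omega, mul_add, mul_sum, mul_sum]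
  have h : ∀ i ∈ range n, (cheb Q (i + 1)).eval e * (cheb Q (n + 2 - i)).eval x =
      x * ((cheb Q (i + 1)).eval e * (cheb Q (n + 1 - i)).eval x) -
        Q * ((cheb Q (i + 1)).eval e * (cheb Q (n - i)).eval x) := by
    intro i hi
    have hin := mem_range.1 hi
    rw [show n + 2 - i = (n - i) + 2 by omega, show n + 1 - i = (n - i) + 1 by omega, eval_cheb_add_two]
    ring
  rw [sum_congr rfl h, sum_sub_distrib]
  simp only [cheb_one, cheb_two, eval_one, eval_X]
  ring

theorem sub_mul_kern (e x : ℝ) : ∀ n : ℕ,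
    (e - x) * kern Q n e x = (cheb Q (n + 1)).eval e - (cheb Q (n + 1)).eval x
  | 0 => by simp [kern_zero, cheb_one]
  | 1 => by simp [kern_one, cheb_two]
  | n + 2 => by
    have h1 := sub_mul_kern e x n
    have h2 := sub_mul_kern e x (n + 1)
    rw [kern_add_two, eval_cheb_add_two Q (n + 1) e, eval_cheb_add_two Q (n + 1) x]
    linear_combination x * h2 - Q * h1

/-- The derivative identity. -/
theorem kern_diag (x : ℝ) : ∀ n : ℕ, (x ^ 2 - 4 * Q) * kern Q n x x =
    n * x * (cheb Q (n + 1)).eval x - 2 * (n + 1) * Q * (cheb Q n).eval x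
  | 0 => by simp [kern_zero, cheb_zero]
  | 1 => by simp [kern_one, cheb_one, cheb_two]; ring
  | n + 2 => by
    have h1 := kern_diag x n
    have h2 := kern_diag x (n + 1)
    rw [kern_add_two, eval_cheb_add_two Q (n + 1)]
    push_cast
    push_cast at h1 h2
    rw [eval_cheb_add_two Q n] at h2 ⊢
    linear_combination x * h2 - Q * h1

/-- Two consecutive values cannot both vanish. -/
theorem cheb_consecutive (hQ : Q ≠ 0) (x : ℝ) : ∀ n : ℕ,
    (cheb Q (n + 1)).eval x = 0 → (cheb Q n).eval x ≠ 0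
  | 0, h => by simp [cheb_one] at h
  | n + 1, h => fun h' => by
    rw [eval_cheb_add_two, h', mul_zero, zero_sub, neg_eq_zero, mul_eq_zero] at h
    exact cheb_consecutive hQ x n h' (h.resolve_left hQ)

/-- Values on the interval. -/
theorem cheb_eval_cos (w θ : ℝ) : ∀ n : ℕ,
    (cheb (w ^ 2) n).eval (2 * w * Real.cos θ) * (w * Real.sin θ) = w ^ n * Real.sin (n * θ)
  | 0 => by simp [cheb_zero]
  | 1 => by simp [cheb_one]
  | n + 2 => by
    have h1 := cheb_eval_cos w θ n
    have h2 := cheb_eval_cos w θ (n + 1)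
    rw [eval_cheb_add_two]
    have h3 : Real.sin (((n + 2 : ℕ) : ℝ) * θ) =
        2 * Real.cos θ * Real.sin (((n + 1 : ℕ) : ℝ) * θ) - Real.sin (n * θ) := by
      push_cast
      rw [show ((n : ℝ) + 2) * θ = ((n : ℝ) + 1) * θ + θ by ring,
        show (n : ℝ) * θ = ((n : ℝ) + 1) * θ - θ by ring, Real.sin_add, Real.sin_sub]
      ring
    rw [h3]
    linear_combination (2 * w * Real.cos θ) * h2 - (w ^ 2) * h1

/-- The polynomials are odd or even. -/
theorem cheb_eval_neg (x : ℝ) : ∀ n : ℕ, (cheb Q n).eval (-x) = (-1) ^ (n + 1) * (cheb Q n).eval x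
  | 0 => by simp [cheb_zero]
  | 1 => by simp [cheb_one]
  | n + 2 => by
    rw [eval_cheb_add_two, eval_cheb_add_two, cheb_eval_neg x n, cheb_eval_neg x (n + 1)]
    ring

end CfsgLib.FeitHigman
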