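import Cfsg.Agent.FeitHigman.Algebra

/-!
# The eigenvalues of the central element
-/

set_option autoImplicit false

namespace CfsgLib.FeitHigman.HeckePair

open Matrix Polynomial

variable {ι : Type*} [Fintype ι] [DecidableEq ι] (D : HeckePair ι)

theorem mulVec_M {v : ι → ℝ} {e : ℝ} (hv : D.Z *ᵥ v = e • v) : ∀ k : ℕ,
    D.M k *ᵥ v = (cheb D.Q k).eval e • v
  | 0 => by simp [M_zero, cheb_zero]
  | 1 => by simp [M_one, cheb_one]
  | k + 2 => by
    rw [M_add_two, sub_mulVec, smul_mulVec, ← mulVec_mulVec, mulVec_M hv (k + 1), mulVec_M hv k,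
      mulVec_smul, hv, eval_cheb_add_two, smul_smul, smul_smul, ← sub_smul, mul_comm e]

theorem pair_pow_swap (l : ℕ) : (D.H * D.F) ^ (l + 1) = D.M (l + 1) * (D.H * D.F) - D.Q • D.M l := by
  have h := D.swap.pair_pow l
  rw [M_swap, M_swap, Q_swap] at h
  exact h

theorem braid_even {l : ℕ} (h : D.m = 2 * (l + 1)) :
    D.M (l + 1) * (D.F * D.H - D.H * D.F) = 0 := by
  have hb := D.braid
  rw [h, altMul_two_mul, altMul_two_mul, D.pair_pow, D.pair_pow_swap, sub_left_inj] at hb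
  rw [mul_sub, hb, sub_self]

theorem q_eq_r [Nonempty ι] {l : ℕ} (h : D.m = 2 * l + 1) : D.q = D.r := by
  set W := altMul D.F D.H D.m with hW
  have h1 : D.F * W = W * D.H := by
    conv_lhs => rw [hW, D.braid, ← altMul_succ]
    rw [hW, h, altMul_two_mul_add_one']
  have h2 : ((D.q : ℝ) - D.r) • ((D.F + 1) * W) = 0 := by
    have e1 : D.F * (D.F * W) = W * (D.H * D.H) := by
      rw [h1, ← mul_assoc, h1, mul_assoc]
    rw [D.F_sq_left, D.H_sq, mul_add, mul_smul_comm, mul_smul_comm, mul_one, ← h1] at e1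
    rw [add_mul, one_mul, smul_add, sub_smul, sub_smul]
    have e2 := sub_eq_zero.2 e1
    rw [← e2]
    module
  have hunit : IsUnit W := by
    have hF : IsUnit D.F := by
      refine (Matrix.isUnit_iff_isUnit_det _).2 ?_
      have hq0 : (D.q : ℝ) ≠ 0 := by exact_mod_cast (by have := D.hq; omega : D.q ≠ 0)
      refine isUnit_det_of_left_inverse (B := (D.q : ℝ)⁻¹ • (D.F - ((D.q : ℝ) - 1) • 1)) ?_
      rw [smul_mul_assoc, sub_mul, D.F_sq, smul_mul_assoc, one_mul, add_sub_cancel_left, smul_smul,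
        inv_mul_cancel₀ hq0, one_smul]
    have hH : IsUnit D.H := by
      refine (Matrix.isUnit_iff_isUnit_det _).2 ?_
      have hr0 : (D.r : ℝ) ≠ 0 := by exact_mod_cast (by have := D.hr; omega : D.r ≠ 0)
      refine isUnit_det_of_left_inverse (B := (D.r : ℝ)⁻¹ • (D.H - ((D.r : ℝ) - 1) • 1)) ?_
      rw [smul_mul_assoc, sub_mul, D.H_sq, smul_mul_assoc, one_mul, add_sub_cancel_left, smul_smul,
        inv_mul_cancel₀ hr0, one_smul]
    rw [hW, h, altMul_two_mul_add_one]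
    exact ((hF.mul hH).pow l).mul hF
  rcases smul_eq_zero.1 h2 with h3 | h3
  · exact_mod_cast sub_eq_zero.1 h3
  · exfalso
    have h4 : D.F + 1 = 0 := hunit.mul_left_eq_zero.1 h3
    have h5 := congrArg trace h4
    have hF0 := D.trace_F 1 le_rfl (by have := D.hm; omega)
    rw [altMul_one] at hF0
    rw [trace_add, hF0, trace_one, trace_zero, zero_add] at h5
    exact Fintype.card_ne_zero (by exact_mod_cast h5)

theorem braid_odd {l : ℕ} (h : D.m = 2 * (l + 1) + 1) (hqr : D.q = D.r) :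
    (D.M (l + 2) + (D.q : ℝ) • D.M (l + 1)) * (D.F - D.H) = 0 := by
  have hb := D.braid
  rw [h, altMul_two_mul_add_one, altMul_two_mul_add_one, D.pair_pow, D.pair_pow_swap, sub_mul, sub_mul,
    smul_mul_assoc, smul_mul_assoc, mul_assoc, mul_assoc] at hb
  have hkey : D.F * D.H * D.F - D.H * D.F * D.H = (D.Z + (D.q : ℝ) • 1) * (D.F - D.H) := by
    have h1 := D.Z_mul_F
    have h2 := D.swap.Z_mul_F
    rw [Z_swap] at h2
    replace h2 : D.Z * D.H = D.H * (D.F * D.H) + (D.r : ℝ) • D.F - ((D.r : ℝ) * ((D.q : ℝ) - 1)) • 1 := h2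
    rw [← hqr] at h1 h2
    rw [add_mul, mul_sub, h1, h2, smul_mul_assoc, one_mul, mul_assoc, mul_assoc]
    module
  have hc : D.M (l + 1) * D.Z = D.Z * D.M (l + 1) := (D.commute_M_Z (l + 1)).eq.symm
  have h2 : D.M (l + 1) * (D.F * D.H * D.F - D.H * D.F * D.H) = D.Q • (D.M l * (D.F - D.H)) := by
    rw [mul_assoc, mul_assoc] at hb
    rw [mul_assoc, mul_assoc, mul_sub, mul_sub, smul_sub, sub_eq_sub_iff_sub_eq_sub]
    exact hb
  rw [hkey, ← mul_assoc, mul_add, hc, mul_smul_comm, mul_one, ← smul_mul_assoc] at h2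
  rw [M_add_two, sub_add_eq_add_sub, sub_mul, h2, sub_self]

/-- Every eigenvalue is one of the two linear values or a root of the polynomial attached to `m`. -/
theorem eigen_cases {v : ι → ℝ} {e : ℝ} (hv0 : v ≠ 0) (hv : D.Z *ᵥ v = e • v) :
    D.Q + 1 = e ∨ e = -((D.q : ℝ) + D.r) ∨
      (∀ l, D.m = 2 * (l + 1) → (cheb D.Q (l + 1)).eval e = 0) ∧
      (∀ l, D.m = 2 * (l + 1) + 1 → D.q = D.r →
        (cheb D.Q (l + 2)).eval e + (D.q : ℝ) * (cheb D.Q (l + 1)).eval e = 0) := by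
  have hq2 : (2 : ℝ) ≤ D.q := by exact_mod_cast D.hq
  -- an eigenvector of `F` inside the eigenspace
  obtain ⟨x, ε, hx0, hxF, hxZ, hε⟩ : ∃ (x : ι → ℝ) (ε : ℝ), x ≠ 0 ∧ D.F *ᵥ x = ε • x ∧
      D.Z *ᵥ x = e • x ∧ (ε = -1 ∨ ε = D.q) := by
    by_cases h : D.F *ᵥ v + v = 0
    · exact ⟨v, -1, hv0, by rw [neg_one_smul]; exact eq_neg_of_add_eq_zero_left h, hv, Or.inl rfl⟩
    · refine ⟨_, D.q, h, ?_, ?_, Or.inr rfl⟩
      · rw [mulVec_add, mulVec_mulVec, D.F_sq, add_mulVec, smul_mulVec, smul_mulVec, one_mulVec]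
        module
      · rw [mulVec_add, mulVec_mulVec, D.commute_F.eq, ← mulVec_mulVec, hv, mulVec_smul, smul_add]
  set w := D.H *ᵥ x with hw
  have hHw : D.H *ᵥ w = ((D.r : ℝ) - 1) • w + (D.r : ℝ) • x := by
    rw [hw, mulVec_mulVec, D.H_sq, add_mulVec, smul_mulVec, smul_mulVec, one_mulVec]
  have hFw : D.F *ᵥ w = ((D.q : ℝ) - 1 - ε) • w +
      (e + ((D.r : ℝ) - 1) * ε - ((D.q : ℝ) - 1) * ((D.r : ℝ) - 1)) • x := by
    have h := hxZ
    simp only [Z, add_mulVec, sub_mulVec, smul_mulVec, one_mulVec, ← mulVec_mulVec, ← hw, hxF,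
      mulVec_smul, smul_smul] at h
    linear_combination (norm := module) h
  have hdep : ∀ δ : ℝ, w = δ • x → D.Q + 1 = e ∨ e = -((D.q : ℝ) + D.r) := fun δ hδ => by
    have h1 : δ ^ 2 = ((D.r : ℝ) - 1) * δ + D.r := by
      rw [hδ, mulVec_smul, ← hw, hδ, smul_smul, smul_smul, ← add_smul] at hHw
      have := smul_left_injective ℝ hx0 hHw
      linarith [this]
    have h2 : e = 2 * ε * δ - ((D.q : ℝ) - 1) * δ - ((D.r : ℝ) - 1) * ε +
        ((D.q : ℝ) - 1) * ((D.r : ℝ) - 1) := by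
      rw [hδ, mulVec_smul, hxF, smul_smul, smul_smul, ← add_smul] at hFw
      have := smul_left_injective ℝ hx0 hFw
      linarith [this]
    have h3 : δ = D.r ∨ δ = -1 := by
      have : (δ - D.r) * (δ + 1) = 0 := by linear_combination h1
      rcases mul_eq_zero.1 this with h | h
      · exact Or.inl (sub_eq_zero.1 h)
      · exact Or.inr (eq_neg_of_add_eq_zero_left h)
    simp only [Q]
    rcases hε with rfl | rfl <;> rcases h3 with rfl | rfl
    · right; rw [h2]; ring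
    · left; rw [h2]; ring
    · left; rw [h2]; ring
    · right; rw [h2]; ring
  by_cases hd : ∃ δ : ℝ, w = δ • x
  · obtain ⟨δ, hδ⟩ := hd
    exact (hdep δ hδ).elim Or.inl fun h => Or.inr (Or.inl h)
  refine Or.inr (Or.inr ⟨fun l hl => ?_, fun l hl hqr => ?_⟩)
  · set u := (D.F * D.H - D.H * D.F) *ᵥ x with hu
    have hu0 : u ≠ 0 := by
      intro h0
      rw [hu, sub_mulVec, ← mulVec_mulVec, ← mulVec_mulVec, hxF, mulVec_smul, ← hw, hFw] at h0
      set c := e + ((D.r : ℝ) - 1) * ε - ((D.q : ℝ) - 1) * ((D.r : ℝ) - 1)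
      have hne : ((D.q : ℝ) - 1 - ε) - ε ≠ 0 := by rcases hε with rfl | rfl <;> linarith
      refine hd ⟨-(((D.q : ℝ) - 1 - ε) - ε)⁻¹ * c, ?_⟩
      apply smul_right_injective (ι → ℝ) hne
      simp only [smul_smul]
      rw [show (((D.q : ℝ) - 1 - ε) - ε) * (-(((D.q : ℝ) - 1 - ε) - ε)⁻¹ * c) = -c by
        field_simp]
      linear_combination (norm := module) h0
    have huZ : D.Z *ᵥ u = e • u := by
      rw [hu, mulVec_mulVec, ((D.commute_F.mul_right D.commute_H).sub_right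
        (D.commute_H.mul_right D.commute_F)).eq, ← mulVec_mulVec, hxZ, mulVec_smul]
    have h := congrArg (· *ᵥ x) (D.braid_even hl)
    simp only [← mulVec_mulVec, zero_mulVec, ← hu, D.mulVec_M huZ] at h
    exact (smul_eq_zero.1 h).resolve_right hu0
  · set u := (D.F - D.H) *ᵥ x with hu
    have hu0 : u ≠ 0 := by
      intro h0
      rw [hu, sub_mulVec, hxF, ← hw, sub_eq_zero] at h0
      exact hd ⟨ε, h0.symm⟩
    have huZ : D.Z *ᵥ u = e • u := by
      rw [hu, mulVec_mulVec, (D.commute_F.sub_right D.commute_H).eq, ← mulVec_mulVec, hxZ, mulVec_smul]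
    have h := congrArg (· *ᵥ x) (D.braid_odd hl hqr)
    simp only [← mulVec_mulVec, zero_mulVec, ← hu, add_mulVec, smul_mulVec, D.mulVec_M huZ, smul_smul,
      ← add_smul] at h
    exact (smul_eq_zero.1 h).resolve_right hu0

end CfsgLib.FeitHigman.HeckePair
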