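import Cfsg.Agent.FeitHigman.Cells

/-!
# The Feit–Higman theorem for Tits systems
-/

set_option autoImplicit false
set_option linter.unusedSectionVars false

namespace CfsgLib.FeitHigman

open CfsgLib.BNPairs

/-! ### Groups generated by two involutions -/

section Dihedral

variable {H : Type*} [Group H] {x y : H}

/-- A word in two involutions equals an alternating word of at most the same length. -/
theorem exists_alt (hx : x * x = 1) (hy : y * y = 1) (l : List H) (hl : ∀ z ∈ l, z = x ∨ z = y) :
    ∃ j ≤ l.length, l.prod = (altList x y j).prod ∨ l.prod = (altList y x j).prod := by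
  induction l with
  | nil => exact ⟨0, le_rfl, Or.inl rfl⟩
  | cons z l ih =>
    obtain ⟨j, hj, hjl⟩ := ih fun w hw => hl w (List.mem_cons_of_mem _ hw)
    simp only [List.prod_cons, List.length_cons]
    have key : ∀ a b : H, a * a = 1 → (l.prod = (altList a b j).prod ∨ l.prod = (altList b a j).prod) →
        ∃ i ≤ l.length + 1, a * l.prod = (altList a b i).prod ∨ a * l.prod = (altList b a i).prod := by
      intro a b ha h
      rcases h with h | h
      · rcases j with _ | j
        · exact ⟨1, by omega, Or.inl (by rw [h]; simp [altList])⟩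
        · refine ⟨j, by omega, Or.inr ?_⟩
          rw [h, altList_succ_take, List.prod_cons, ← mul_assoc, ha, one_mul]
      · exact ⟨j + 1, by omega, Or.inl (by rw [h, altList_succ_take, List.prod_cons])⟩
    rcases hl z List.mem_cons_self with rfl | rfl
    · exact key z y hx hjl
    · obtain ⟨i, hi, h⟩ := key z x hy hjl.symm
      exact ⟨i, hi, h.symm⟩

theorem altList_ne_one (hx : x * x = 1) (hy : y * y = 1) (hx1 : x ≠ 1) (hy1 : y ≠ 1) :
    ∀ k : ℕ, 0 < k → k < 2 * orderOf (x * y) → (altList x y k).prod ≠ 1 := by
  intro k hk hlt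
  rcases Nat.even_or_odd k with ⟨j, rfl⟩ | ⟨j, rfl⟩
  · have : ∀ i, (altList x y (i + i)).prod = (x * y) ^ i := by
      intro i
      induction i with
      | zero => simp [altList]
      | succ i ih =>
        rw [show i + 1 + (i + 1) = (i + i + 1) + 1 by ring, altList_succ_take, altList_succ_take,
          List.prod_cons, List.prod_cons, ih, pow_succ', mul_assoc]
    rw [this]
    intro h
    have := Nat.le_of_dvd (by omega) (orderOf_dvd_of_pow_eq_one h)
    omega
  · clear hk hlt
    induction j generalizing x y with
    | zero => simpa [altList] using hx1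
    | succ j ih =>
      intro h
      apply ih hy hx hy1 hx1
      have e : ∀ (k : ℕ) (a b : H), a * a = 1 → b * b = 1 → (altList a b (2 * k + 3)).prod =
          a * (altList b a (2 * k + 1)).prod * a := by
        intro k
        induction k with
        | zero => intro a b ha hb; simp [altList, mul_assoc]
        | succ k ihk =>
          intro a b ha hb
          rw [show 2 * (k + 1) + 3 = (2 * k + 3) + 1 + 1 by ring, altList_succ_take, altList_succ_take,
            List.prod_cons, List.prod_cons, ihk a b ha hb,
            show altList b a (2 * (k + 1) + 1) = b :: a :: altList b a (2 * k + 1) by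
              rw [show 2 * (k + 1) + 1 = (2 * k + 1) + 1 + 1 by ring, altList_succ_take, altList_succ_take],
            List.prod_cons, List.prod_cons]
          group
      rw [show 2 * (j + 1) + 1 = 2 * j + 3 by ring, e j x y hx hy] at h
      calc (altList y x (2 * j + 1)).prod
          = x * (x * (altList y x (2 * j + 1)).prod * x) * x := by
            rw [← mul_assoc, ← mul_assoc, hx, one_mul, mul_assoc, hx, mul_one]
        _ = 1 := by rw [h, mul_one, hx]

theorem altList_inv_mul (hx : x * x = 1) :
    ∀ (j : ℕ) (i : ℕ) (a b : H), a * a = 1 → b * b = 1 →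
      ∃ u v : H, ((u = a ∧ v = b) ∨ (u = b ∧ v = a)) ∧
        (altList a b j).prod⁻¹ * (altList a b (j + i)).prod = (altList u v i).prod := by
  intro j
  induction j with
  | zero => intro i a b _ _; exact ⟨a, b, Or.inl ⟨rfl, rfl⟩, by simp [altList]⟩
  | succ j ih =>
    intro i a b ha hb
    obtain ⟨u, v, huv, h⟩ := ih i b a hb ha
    refine ⟨u, v, huv.symm, ?_⟩
    rw [Nat.add_right_comm, altList_succ_take, altList_succ_take, List.prod_cons, List.prod_cons,
      ← h]
    group

theorem altList_inv_mul' : ∀ (j : ℕ) (i : ℕ) (a b : H), a * a = 1 → b * b = 1 →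
      ∃ u v : H, ((u = a ∧ v = b) ∨ (u = b ∧ v = a)) ∧
        (altList a b j).prod⁻¹ * (altList b a i).prod = (altList u v (j + i)).prod := by
  intro j
  induction j with
  | zero => intro i a b _ _; exact ⟨b, a, Or.inr ⟨rfl, rfl⟩, by simp [altList]⟩
  | succ j ih =>
    intro i a b ha hb
    obtain ⟨u, v, huv, h⟩ := ih (i + 1) b a hb ha
    refine ⟨u, v, huv.symm, ?_⟩
    rw [altList_succ_take a b i, List.prod_cons] at h
    rw [show j + 1 + i = j + (i + 1) by ring, ← h, altList_succ_take a b j, List.prod_cons, mul_inv_rev,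
      inv_eq_of_mul_eq_one_right ha, mul_assoc]

theorem altList_ne (hx : x * x = 1) (hy : y * y = 1) (hx1 : x ≠ 1) (hy1 : y ≠ 1) {i j : ℕ}
    (hji : j < i) (hi : i + j < 2 * orderOf (x * y)) :
    (altList x y i).prod ≠ (altList x y j).prod ∧ (altList x y i).prod ≠ (altList y x j).prod := by
  have hord : orderOf (y * x) = orderOf (x * y) := by
    rw [show y * x = x⁻¹ * (x * y) * x⁻¹⁻¹ by group, ← MulAut.conj_apply, MulEquiv.orderOf_eq]
  have hne : ∀ u v : H, ((u = x ∧ v = y) ∨ (u = y ∧ v = x)) → ∀ k, 0 < k → k < 2 * orderOf (x * y) →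
      (altList u v k).prod ≠ 1 := by
    rintro u v (⟨rfl, rfl⟩ | ⟨rfl, rfl⟩) k hk hlt
    · exact altList_ne_one hx hy hx1 hy1 k hk hlt
    · exact altList_ne_one hy hx hy1 hx1 k hk (hord.symm ▸ hlt)
  constructor
  · intro h
    obtain ⟨u, v, huv, e⟩ := altList_inv_mul (x := x) hx j (i - j) x y hx hy
    rw [Nat.add_sub_cancel' hji.le, h, inv_mul_cancel] at e
    exact hne u v huv _ (by omega) (by omega) e.symm
  · intro h
    obtain ⟨u, v, huv, e⟩ := altList_inv_mul' j i y x hy hx
    rw [h, inv_mul_cancel] at e
    exact hne u v huv.symm _ (by omega) (by omega) e.symm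

theorem prod_altList_braid (hx : x * x = 1) (hy : y * y = 1) :
    (altList x y (orderOf (x * y))).prod = (altList y x (orderOf (x * y))).prod := by
  have h := altList_prod (orderOf (x * y)) x y hx hy
  rw [pow_orderOf_eq_one, mul_inv_eq_one] at h
  exact h

theorem natCard_eq_two_mul [Finite H] (hx : x * x = 1) (hy : y * y = 1) (hx1 : x ≠ 1) (hy1 : y ≠ 1)
    (hgen : ∀ w : H, ∃ l : List H, (∀ z ∈ l, z = x ∨ z = y) ∧ l.prod = w) :
    Nat.card H = 2 * orderOf (x * y) := by
  set m := orderOf (x * y) with hm
  have hm0 : 0 < m := orderOf_pos _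
  have hbij : Function.Bijective (fun p : Fin m × Bool =>
      if p.2 then (x * y) ^ (p.1 : ℕ) * x else (x * y) ^ (p.1 : ℕ)) := by
    constructor
    · have hnot : ∀ k : ℕ, (x * y) ^ k ≠ x := by
        intro k h
        have h2 : (x * y) ^ (2 * k) = 1 := by rw [two_mul, pow_add, h, hx]
        -- `x` would commute with `x * y`
        have hc := ((Commute.refl (x * y)).pow_left k).eq
        rw [h] at hc
        have hyx : y = x * y * x := by rwa [← mul_assoc, hx, one_mul] at hc
        have hxy : x * y = y * x := by
          calc x * y = x * y * (x * x) := by rw [hx, mul_one]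
            _ = (x * y * x) * x := by group
            _ = y * x := by rw [← hyx]
        have hsq : (x * y) ^ 2 = 1 := by
          rw [pow_two]
          calc x * y * (x * y) = x * (y * x) * y := by group
            _ = x * (x * y) * y := by rw [hxy]
            _ = 1 := by rw [← mul_assoc, hx, one_mul, hy]
        have h' : x = (x * y) ^ (k % 2) := h.symm.trans (pow_eq_pow_mod k hsq)
        rcases Nat.mod_two_eq_zero_or_one k with e | e
        · rw [e, pow_zero] at h'
          exact hx1 h'
        · rw [e, pow_one, left_eq_mul] at h'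
          exact hy1 h'
      rintro ⟨i, b⟩ ⟨j, c⟩ h
      have hinj : ∀ i j : Fin m, (x * y) ^ (i : ℕ) = (x * y) ^ (j : ℕ) → i = j := fun i j h =>
        Fin.ext (pow_injOn_Iio_orderOf (Set.mem_Iio.2 i.2) (Set.mem_Iio.2 j.2) h)
      have hcross : ∀ i j : Fin m, (x * y) ^ (i : ℕ) * x ≠ (x * y) ^ (j : ℕ) := by
        intro i j h
        apply hnot ((j : ℕ) + (m - i))
        have h1 : (x * y) ^ (m - (i : ℕ)) * (x * y) ^ (i : ℕ) = 1 := by
          rw [← pow_add, Nat.sub_add_cancel i.2.le, hm, pow_orderOf_eq_one]
        rw [add_comm, pow_add, ← h, ← mul_assoc, h1, one_mul]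
      cases b <;> cases c <;> simp only [Bool.false_eq_true, if_false, if_true] at h
      · rw [hinj i j h]
      · exact absurd h.symm (hcross j i)
      · exact absurd h (hcross i j)
      · rw [hinj i j (mul_right_cancel h)]
    · intro w
      obtain ⟨l, hl, rfl⟩ := hgen w
      obtain ⟨j, -, hj⟩ := exists_alt hx hy l hl
      have hpow : ∀ n : ℕ, ∃ i : Fin m, (x * y) ^ (i : ℕ) = (x * y) ^ n := fun n =>
        ⟨⟨n % m, Nat.mod_lt _ hm0⟩, pow_mod_orderOf _ _⟩
      have hyx : ∀ n : ℕ, ∃ i : ℕ, (y * x) ^ n = (x * y) ^ i := fun n =>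
        ⟨n * (m - 1), by
          rw [mul_comm, pow_mul]
          congr 1
          refine mul_left_cancel (a := x * y) ?_
          rw [← pow_succ', Nat.sub_add_cancel hm0, hm, pow_orderOf_eq_one]
          rw [show x * y * (y * x) = x * (y * y) * x by group, hy, mul_one, hx]⟩
      have he : ∀ (a b : H) (i : ℕ), (altList a b (2 * i)).prod = (a * b) ^ i ∧
          (altList a b (2 * i + 1)).prod = (a * b) ^ i * a := by
        intro a b i
        induction i with
        | zero => simp [altList]
        | succ i ih =>
          constructor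
          · rw [show 2 * (i + 1) = 2 * i + 1 + 1 by ring, altList_succ_take, altList_succ_take,
              List.prod_cons, List.prod_cons, ih.1, pow_succ', mul_assoc]
          · rw [show 2 * (i + 1) + 1 = 2 * i + 1 + 1 + 1 by ring, altList_succ_take a b (2 * i + 1 + 1),
              altList_succ_take b a (2 * i + 1), List.prod_cons, List.prod_cons, ih.2, pow_succ']
            group
      have main : ∀ n : ℕ, ∃ p : Fin m × Bool,
          (if p.2 then (x * y) ^ (p.1 : ℕ) * x else (x * y) ^ (p.1 : ℕ)) = (altList x y n).prod ∧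
          ∃ p' : Fin m × Bool,
          (if p'.2 then (x * y) ^ (p'.1 : ℕ) * x else (x * y) ^ (p'.1 : ℕ)) = (altList y x n).prod := by
        intro n
        rcases Nat.even_or_odd n with ⟨k, rfl⟩ | ⟨k, rfl⟩
        · rw [← two_mul, (he x y k).1, (he y x k).1]
          obtain ⟨i, hi⟩ := hpow k
          obtain ⟨k', hk'⟩ := hyx k
          obtain ⟨i', hi'⟩ := hpow k'
          exact ⟨(i, false), by simpa using hi, (i', false), by simpa [hk'] using hi'⟩
        · rw [(he x y k).2, (he y x k).2]
          obtain ⟨i, hi⟩ := hpow k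
          obtain ⟨k', hk'⟩ := hyx (k + 1)
          obtain ⟨i', hi'⟩ := hpow k'
          refine ⟨(i, true), by simpa using congrArg (· * x) hi, (i', true), ?_⟩
          simp only [if_true]
          rw [hi', ← hk', pow_succ, mul_assoc, mul_assoc y, hx, mul_one]
      obtain ⟨p, hp, p', hp'⟩ := main j
      rcases hj with hj | hj
      · exact ⟨p, hp.trans hj.symm⟩
      · exact ⟨p', hp'.trans hj.symm⟩
  rw [← Nat.card_congr (Equiv.ofBijective _ hbij), Nat.card_prod, Nat.card_eq_fintype_card,
    Fintype.card_fin, Nat.card_eq_fintype_card, Fintype.card_bool, mul_comm]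

end Dihedral

/-! ### Tits systems of rank two -/

section Tits

variable {G : Type*} [Group G] [Finite G] {P : Cfsg.BNPair G}
  [hN : ((P.B ⊓ P.N).subgroupOf P.N).Normal]

theorem weylGen_ne_one (s : P.S) : weylGen P s ≠ 1 := by
  intro h
  rw [weylGen, QuotientGroup.eq_one_iff, Subgroup.mem_subgroupOf] at h
  exact not_mem_B_of_mem_S s.2 (Subgroup.mem_inf.1 h).1

/-- Alternating words up to the order of the product are reduced. -/
theorem len_repWord_alt (a b : P.S) (hcover : ∀ s : P.S, s = a ∨ s = b) {i : ℕ}
    (hi : i ≤ orderOf (weylGen P a * weylGen P b)) :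
    len P (repWord (altList a b i)) = i := by
  have hlen : ∀ (k : ℕ) (u v : P.S), (altList u v k).length = k := by
    intro k
    induction k with
    | zero => intro u v; rfl
    | succ k ih => intro u v; rw [altList_succ_take, List.length_cons, ih]
  refine le_antisymm ((len_repWord_le _).trans_eq (hlen i a b)) ?_
  by_contra hlt
  push Not at hlt
  obtain ⟨l, hl, hlk⟩ := exists_reduced (repWord_mem (altList a b i))
  set l' : List P.S := l.attach.map fun z => ⟨z.1, hl.1 z.1 z.2⟩ with hl'
  have hval : l'.map Subtype.val = l := by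
    rw [hl', List.map_map]
    simp [Function.comp_def, List.attach_map_val]
  have heq : (l'.map (weylGen P)).prod = ((altList a b i).map (weylGen P)).prod := by
    rw [← mk_repWord, ← mk_repWord, mk_eq_mk_iff]
    show (repWord l')⁻¹ * repWord (altList a b i) ∈ P.B
    rw [repWord, hval]
    exact hl.2
  obtain ⟨j, hj, hjl⟩ := exists_alt (weylGen_mul_self a) (weylGen_mul_self b) (l'.map (weylGen P))
    (fun z hz => by
      obtain ⟨s, -, rfl⟩ := List.mem_map.1 hz
      rcases hcover s with rfl | rfl <;> simp)
  rw [List.length_map, hl', List.length_map, List.length_attach, hlk] at hj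
  rw [heq, map_altList] at hjl
  have := altList_ne (weylGen_mul_self a) (weylGen_mul_self b) (weylGen_ne_one a) (weylGen_ne_one b)
    (i := i) (j := j) (by omega) (by omega)
  exact hjl.elim this.1 this.2

variable [Fintype (Chambers P)] [DecidableEq (Chambers P)]

theorem altMul_cellMat (a b : P.S) (hcover : ∀ s : P.S, s = a ∨ s = b) :
    ∀ i, i ≤ orderOf (weylGen P a * weylGen P b) →
      altMul (cellMat P (a : G)) (cellMat P (b : G)) i = cellMat P (repWord (altList a b i)) := by
  intro i
  induction i generalizing a b with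
  | zero => intro _; simp [altMul, altList, repWord, cellMat_one]
  | succ i ih =>
    intro hi
    have hord : orderOf (weylGen P b * weylGen P a) = orderOf (weylGen P a * weylGen P b) := by
      rw [show weylGen P b * weylGen P a = (weylGen P a)⁻¹ * (weylGen P a * weylGen P b) * (weylGen P a)⁻¹⁻¹ by group,
        ← MulAut.conj_apply, MulEquiv.orderOf_eq]
    have hrep : repWord (altList a b (i + 1)) = (a : G) * repWord (altList b a i) := by
      simp [repWord, altList_succ_take]
    rw [altMul_succ, ih b a (fun s => (hcover s).symm) (by omega), cellMat_mul_of_lt a.2 (repWord_mem _),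
      hrep]
    rw [← hrep, len_repWord_alt a b hcover hi, len_repWord_alt b a (fun s => (hcover s).symm) (by omega)]
    omega

/-- The Feit–Higman theorem. -/
theorem index_mem (h2 : P.rank = 2) :
    ((P.B ⊓ P.N).subgroupOf P.N).index ∈ ({4, 6, 8, 12, 16} : Set ℕ) := by
  classical
  obtain ⟨a, b, hab, hS⟩ := (Nat.card_eq_two_iff (α := P.S)).1 h2
  have hcover : ∀ s : P.S, s = a ∨ s = b := fun s => by
    have h : s ∈ ({a, b} : Set P.S) := by rw [hS]; trivial
    simpa using h
  set x := weylGen P a
  set y := weylGen P b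
  set m := orderOf (x * y) with hm
  haveI : Finite (Weyl P) := inferInstance
  have hm0 : 0 < m := orderOf_pos _
  have hm1 : m ≠ 1 := by
    intro h
    rw [hm, orderOf_eq_one_iff, mul_eq_one_iff_eq_inv, weylGen_inv] at h
    exact hab (Subtype.ext (P.inj _ a.2 _ b.2 (mk_eq_mk_iff.1 h)))
  have hord : orderOf (y * x) = m := by
    rw [show y * x = x⁻¹ * (x * y) * x⁻¹⁻¹ by group, ← MulAut.conj_apply, MulEquiv.orderOf_eq]
  have htr : ∀ (u v : P.S), (∀ s : P.S, s = u ∨ s = v) → ∀ i, 1 ≤ i →
      i ≤ orderOf (weylGen P u * weylGen P v) →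
      Matrix.trace (altMul (cellMat P (u : G)) (cellMat P (v : G)) i) = 0 := fun u v huv i h1 hi => by
    rw [altMul_cellMat u v huv i hi]
    exact trace_cellMat (repWord_mem _) (by rw [len_repWord_alt u v huv hi]; omega)
  have hbraid : altMul (cellMat P (a : G)) (cellMat P (b : G)) m =
      altMul (cellMat P (b : G)) (cellMat P (a : G)) m := by
    rw [altMul_cellMat a b hcover m le_rfl,
      altMul_cellMat b a (fun s => (hcover s).symm) m hord.ge]
    have hc : cell P (repWord (altList a b m)) = cell P (repWord (altList b a m)) := by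
      refine cell_eq_of_rel ?_
      have hW := prod_altList_braid (weylGen_mul_self b) (weylGen_mul_self a)
      rw [hord, ← map_altList, ← map_altList, ← mk_repWord, ← mk_repWord] at hW
      exact mk_eq_mk_iff.1 hW
    ext u v
    classical
    simp only [cellMat_apply]
    exact if_congr (by rw [Adj, Adj, hc]) rfl rfl
  let D : HeckePair (Chambers P) :=
    { q := param P (a : G), r := param P (b : G), m := m, F := cellMat P (a : G), H := cellMat P (b : G)
      hq := two_le_param a.2, hr := two_le_param b.2, hm := by omega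
      F_sym := cellMat_isSymm a.2, H_sym := cellMat_isSymm b.2
      F_sq := cellMat_sq a.2, H_sq := cellMat_sq b.2
      braid := hbraid
      trace_F := htr a b hcover
      trace_H := fun i h1 hi => htr b a (fun s => (hcover s).symm) i h1 (hord.ge.trans' hi) }
  haveI : Nonempty (Chambers P) := ⟨((1 : G) : Chambers P)⟩
  have hmem := D.m_mem
  have hcard : Nat.card (Weyl P) = 2 * m := by
    refine natCard_eq_two_mul (weylGen_mul_self a) (weylGen_mul_self b) (weylGen_ne_one a)
      (weylGen_ne_one b) fun w => ?_
    obtain ⟨⟨n, hn⟩, rfl⟩ := QuotientGroup.mk_surjective w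
    obtain ⟨l, hl, hlr⟩ := exists_word hn
    refine ⟨(l.attach.map fun z => (⟨z.1, hl z.1 z.2⟩ : P.S)).map (weylGen P), fun z hz => ?_, ?_⟩
    · obtain ⟨s, -, rfl⟩ := List.mem_map.1 hz
      rcases hcover s with rfl | rfl <;> simp [x, y]
    · rw [← mk_repWord, mk_eq_mk_iff]
      simpa [repWord, List.map_map, Function.comp_def, List.attach_map_val] using hlr
  rw [Subgroup.index, hcard]
  simp only [Set.mem_insert_iff, Set.mem_singleton_iff] at hmem ⊢
  change m = 2 ∨ m = 3 ∨ m = 4 ∨ m = 6 ∨ m = 8 at hmem
  omega

end Tits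

end CfsgLib.FeitHigman
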