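import Mathlib

/-!
# Traces of polynomials in a real symmetric matrix
-/

set_option autoImplicit false

namespace CfsgLib.FeitHigman

open Matrix Polynomial

variable {ι : Type*} [Fintype ι] [DecidableEq ι]

/-- The trace of `p(A)` is the sum of the values of `p` at the eigenvalues of `A`. -/
theorem trace_aeval_eq_sum {A : Matrix ι ι ℝ} (hA : A.IsHermitian) (p : ℝ[X]) :
    trace (aeval A p) = ∑ i, p.eval (hA.eigenvalues i) := by
  set U : Matrix ι ι ℝ := (hA.eigenvectorUnitary : Matrix ι ι ℝ) with hU
  have hUU : star U * U = 1 := Unitary.coe_star_mul_self hA.eigenvectorUnitary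
  have hspec : A = U * diagonal (fun i => hA.eigenvalues i) * star U := by
    have h := hA.spectral_theorem
    rw [Unitary.conjStarAlgAut_apply] at h
    exact h
  have hkey : ∀ q : ℝ[X], aeval A q = U * diagonal (fun i => q.eval (hA.eigenvalues i)) * star U := by
    intro q
    induction q using Polynomial.induction_on' with
    | add a b ha hb =>
      rw [map_add, ha, hb, ← add_mul, ← mul_add, diagonal_add]
      simp only [eval_add]
    | monomial n c =>
      rw [aeval_monomial]
      have hpow : ∀ k : ℕ, A ^ k = U * diagonal (fun i => hA.eigenvalues i ^ k) * star U := by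
        intro k
        induction k with
        | zero => simp [hU, Unitary.coe_mul_star_self]
        | succ k ih =>
          rw [pow_succ, ih]
          conv_lhs => arg 2; rw [hspec]
          rw [show U * diagonal (fun i => hA.eigenvalues i ^ k) * star U * (U * diagonal (fun i => hA.eigenvalues i) * star U)
            = U * (diagonal (fun i => hA.eigenvalues i ^ k) * (star U * U) * diagonal (fun i => hA.eigenvalues i)) * star U by
              simp only [mul_assoc], hUU, mul_one, diagonal_mul_diagonal]
          simp only [← pow_succ]
      rw [hpow, Algebra.algebraMap_eq_smul_one, smul_mul_assoc, one_mul, ← smul_mul_assoc,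
        ← mul_smul_comm, ← diagonal_smul]
      simp only [eval_monomial, Pi.smul_def, smul_eq_mul]
  rw [hkey, trace_mul_cycle, hUU, one_mul, trace_diagonal]

end CfsgLib.FeitHigman
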