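import Cfsg.Agent.FeitHigman.Trace
import Cfsg.Agent.FeitHigman.Eigen
import Cfsg.Agent.FeitHigman.Spectral

/-!
# The multiplicities of the roots
-/

set_option autoImplicit false

namespace CfsgLib.FeitHigman.HeckePair

open Matrix Polynomial Finset

variable {ι : Type*} [Fintype ι] [DecidableEq ι] (D : HeckePair ι)

theorem isHermitian_Z : D.Z.IsHermitian := by
  show D.Zᴴ = D.Z
  rw [conjTranspose_eq_transpose_of_trivial]
  simp only [Z, transpose_add, transpose_sub, transpose_mul, transpose_smul, transpose_one, D.F_sym.eq,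
    D.H_sym.eq]
  abel

/-- The quotient polynomial `(Φ - Φ(x)) / (X - x)` for the `n`-th polynomial. -/
noncomputable def kernPoly (n : ℕ) (x : ℝ) : ℝ[X] :=
  ∑ i ∈ range n, C ((cheb D.Q (n - i)).eval x) * cheb D.Q (i + 1)

theorem eval_kernPoly (n : ℕ) (e x : ℝ) : (D.kernPoly n x).eval e = kern D.Q n e x := by
  simp only [kernPoly, kern, eval_finset_sum, eval_mul, eval_C]
  exact sum_congr rfl fun i _ => mul_comm _ _

theorem trace_linPoly_kernPoly {n : ℕ} (hn : 2 * n + 2 ≤ D.m + 1) (hm : 3 ≤ D.m) (x : ℝ) :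
    trace (aeval D.Z (D.linPoly * D.kernPoly n x)) =
      -(2 * D.Q * Fintype.card ι) * (cheb D.Q n).eval x := by
  rcases n with _ | n
  · simp [kernPoly, cheb_zero]
  rw [kernPoly, mul_sum, map_sum, trace_sum, sum_eq_single 0]
  · rw [Nat.sub_zero, zero_add, show D.linPoly * (C ((cheb D.Q (n + 1)).eval x) * cheb D.Q 1) =
      C ((cheb D.Q (n + 1)).eval x) * (D.linPoly * cheb D.Q 1) by ring, map_mul, aeval_C,
      Algebra.algebraMap_eq_smul_one, smul_mul_assoc, one_mul, trace_smul, smul_eq_mul]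
    change _ * D.wtr 1 = _
    rw [D.wtr_one hm]
    ring
  · intro i hi hi0
    have := mem_range.1 hi
    rw [show D.linPoly * (C ((cheb D.Q (n + 1 - i)).eval x) * cheb D.Q (i + 1)) =
      C ((cheb D.Q (n + 1 - i)).eval x) * (D.linPoly * cheb D.Q (i + 1)) by ring, map_mul, aeval_C,
      Algebra.algebraMap_eq_smul_one, smul_mul_assoc, one_mul, trace_smul]
    change _ • D.wtr (i + 1) = _
    rw [D.wtr_eq_zero (by omega) (by omega), smul_zero]
  · simp

open scoped Classical in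
/-- The multiplicity of `x` as an eigenvalue of the central element. -/
noncomputable def mult (x : ℝ) : ℕ := (univ.filter fun i => D.isHermitian_Z.eigenvalues i = x).card

theorem trace_eq_mult {p : ℝ[X]} {x : ℝ}
    (h : ∀ e v, v ≠ 0 → D.Z *ᵥ v = e • v → e ≠ x → p.eval e = 0) :
    trace (aeval D.Z p) = D.mult x * p.eval x := by
  classical
  rw [trace_aeval_eq_sum D.isHermitian_Z p, mult, ← sum_filter_add_sum_filter_not univ
    (fun i => D.isHermitian_Z.eigenvalues i = x)]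
  rw [sum_congr rfl (g := fun _ => p.eval x) fun i hi => by rw [(mem_filter.1 hi).2], sum_const,
    nsmul_eq_mul, add_eq_left]
  refine sum_eq_zero fun i hi => h _ (⇑(D.isHermitian_Z.eigenvectorBasis i)) ?_ ?_ (mem_filter.1 hi).2
  · intro h0
    exact D.isHermitian_Z.eigenvectorBasis.orthonormal.ne_zero i (by ext j; exact congrFun h0 j)
  · exact D.isHermitian_Z.mulVec_eigenvectorBasis i

theorem linPoly_eval_root (e : ℝ) (h : D.Q + 1 = e ∨ e = -((D.q : ℝ) + D.r)) : D.linPoly.eval e = 0 := by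
  rcases h with rfl | rfl <;> simp [linPoly]

/-- The multiplicity formula, `m` even. -/
theorem mult_even {l : ℕ} (hm : D.m = 2 * (l + 1)) (hl : 1 ≤ l) {x : ℝ}
    (hx : (cheb D.Q (l + 1)).eval x = 0) :
    (D.mult x : ℝ) * D.m * D.linPoly.eval x = 2 * Fintype.card ι * (x ^ 2 - 4 * D.Q) := by
  have hvan : ∀ e v, v ≠ 0 → D.Z *ᵥ v = e • v → e ≠ x → (D.linPoly * D.kernPoly l x).eval e = 0 := by
    intro e v hv0 hv hne
    rw [eval_mul]
    rcases D.eigen_cases hv0 hv with h | h | ⟨h, -⟩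
    · rw [D.linPoly_eval_root e (Or.inl h), zero_mul]
    · rw [D.linPoly_eval_root e (Or.inr h), zero_mul]
    · have h1 := sub_mul_kern D.Q e x l
      rw [h l hm, hx, sub_zero, mul_eq_zero] at h1
      rw [eval_kernPoly, h1.resolve_left (sub_ne_zero.2 hne), mul_zero]
  have h1 := D.trace_linPoly_kernPoly (n := l) (by omega) (by omega) x
  rw [D.trace_eq_mult hvan, eval_mul, eval_kernPoly] at h1
  have h2 := kern_diag D.Q x l
  rw [hx, mul_zero, zero_sub] at h2
  have hU : (cheb D.Q l).eval x ≠ 0 := cheb_consecutive D.Q D.Q_pos.ne' x l hx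
  have hQU : D.Q * (cheb D.Q l).eval x ≠ 0 := mul_ne_zero D.Q_pos.ne' hU
  rw [hm]
  push_cast
  apply mul_right_cancel₀ hQU
  linear_combination (-(x ^ 2 - 4 * D.Q)) * h1 + (D.mult x : ℝ) * D.linPoly.eval x * h2

/-- The multiplicity formula, `m` odd. -/
theorem mult_odd {l : ℕ} (hm : D.m = 2 * (l + 1) + 1) (hqr : D.q = D.r) {x : ℝ}
    (hx : (cheb D.Q (l + 2)).eval x + (D.q : ℝ) * (cheb D.Q (l + 1)).eval x = 0)
    (hx2 : x + 2 * (D.q : ℝ) ≠ 0) :
    (D.mult x : ℝ) * D.m * D.linPoly.eval x = 2 * Fintype.card ι * (x ^ 2 - 4 * D.Q) := by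
  have hvan : ∀ e v, v ≠ 0 → D.Z *ᵥ v = e • v → e ≠ x →
      (D.linPoly * (D.kernPoly (l + 1) x + C (D.q : ℝ) * D.kernPoly l x)).eval e = 0 := by
    intro e v hv0 hv hne
    rw [eval_mul]
    rcases D.eigen_cases hv0 hv with h | h | ⟨-, h⟩
    · rw [D.linPoly_eval_root e (Or.inl h), zero_mul]
    · rw [D.linPoly_eval_root e (Or.inr h), zero_mul]
    · have he := h l hm hqr
      have hA := sub_mul_kern D.Q e x (l + 1)
      have hB := sub_mul_kern D.Q e x l
      have h1 : (e - x) * (kern D.Q (l + 1) e x + (D.q : ℝ) * kern D.Q l e x) = 0 := by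
        linear_combination hA + (D.q : ℝ) * hB + he - hx
      rw [eval_add, eval_mul, eval_C, eval_kernPoly, eval_kernPoly,
        (mul_eq_zero.1 h1).resolve_left (sub_ne_zero.2 hne), mul_zero]
  have h1 := D.trace_linPoly_kernPoly (n := l + 1) (by omega) (by omega) x
  have h2 := D.trace_linPoly_kernPoly (n := l) (by omega) (by omega) x
  have h3 : trace (aeval D.Z (D.linPoly * (D.kernPoly (l + 1) x + C (D.q : ℝ) * D.kernPoly l x))) =
      -(2 * D.Q * Fintype.card ι) * ((cheb D.Q (l + 1)).eval x + (D.q : ℝ) * (cheb D.Q l).eval x) := by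
    rw [mul_add, ← mul_assoc, mul_comm D.linPoly (C (D.q : ℝ)), mul_assoc, map_add,
      map_mul (aeval D.Z) (C (D.q : ℝ)), aeval_C,
      Algebra.algebraMap_eq_smul_one, smul_mul_assoc, one_mul, trace_add, trace_smul, h1, h2, smul_eq_mul]
    ring
  rw [D.trace_eq_mult hvan, eval_mul, eval_add, eval_mul, eval_C, eval_kernPoly, eval_kernPoly] at h3
  have d1 := kern_diag D.Q x (l + 1)
  have d2 := kern_diag D.Q x l
  have hrec := eval_cheb_add_two D.Q l x
  have hU : (cheb D.Q (l + 1)).eval x ≠ 0 := by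
    intro h0
    rw [h0, mul_zero, add_zero] at hx
    exact cheb_consecutive D.Q D.Q_pos.ne' x (l + 1) hx h0
  have hQq : D.Q = (D.q : ℝ) ^ 2 := by rw [Q, ← hqr]; ring
  have hq0 : (D.q : ℝ) ≠ 0 := by exact_mod_cast (by have := D.hq; omega : D.q ≠ 0)
  rw [hm]
  push_cast
  push_cast at d1
  rw [hQq] at h3 d1 d2 hrec hx hU ⊢
  set a := (cheb ((D.q : ℝ) ^ 2) (l + 2)).eval x
  set b := (cheb ((D.q : ℝ) ^ 2) (l + 1)).eval x
  set c := (cheb ((D.q : ℝ) ^ 2) l).eval x
  set k := kern ((D.q : ℝ) ^ 2) (l + 1) x x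
  set k' := kern ((D.q : ℝ) ^ 2) l x x
  set μ := (D.mult x : ℝ) * D.linPoly.eval x
  have ha : a = -(D.q : ℝ) * b := by linear_combination hx
  have hc : (D.q : ℝ) ^ 2 * c = (x + D.q) * b := by linear_combination hrec - hx
  have hk : (x ^ 2 - 4 * (D.q : ℝ) ^ 2) * (k + (D.q : ℝ) * k') =
      -((2 * l + 3 : ℝ) * D.q * (x + 2 * D.q) * b) := by
    linear_combination d1 + (D.q : ℝ) * d2 + ((l : ℝ) + 1) * x * ha - 2 * ((l : ℝ) + 1) * (D.q : ℝ) * hc
  apply mul_right_cancel₀ (mul_ne_zero (mul_ne_zero hx2 hU) hq0)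
  linear_combination (-(x ^ 2 - 4 * (D.q : ℝ) ^ 2)) * h3 + μ * hk +
    2 * (Fintype.card ι : ℝ) * (x ^ 2 - 4 * (D.q : ℝ) ^ 2) * (D.q : ℝ) * hc

end CfsgLib.FeitHigman.HeckePair
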