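import Cfsg.Agent.FeitHigman.Algebra

/-!
# The trace functional on the subalgebra generated by the central element
-/

set_option autoImplicit false

namespace CfsgLib.FeitHigman.HeckePair

open Matrix Polynomial

variable {ι : Type*} [Fintype ι] [DecidableEq ι] (D : HeckePair ι)

/-- The trace of the `k`-th polynomial at the central element. -/
noncomputable def sig (k : ℕ) : ℝ := trace (D.M k)

/-- The trace of the `k`-th polynomial times the first generator. -/
noncomputable def trF (k : ℕ) : ℝ := trace (D.M k * D.F)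

/-- The trace of the `k`-th polynomial times the second generator. -/
noncomputable def trH (k : ℕ) : ℝ := trace (D.M k * D.H)

theorem sig_swap (k : ℕ) : D.swap.sig k = D.sig k := by rw [sig, sig, M_swap]

theorem swap_trF (k : ℕ) : D.swap.trF k = D.trH k := by rw [trF, trH, M_swap]; rfl

theorem swap_trH (k : ℕ) : D.swap.trH k = D.trF k := by rw [trF, trH, M_swap]; rfl

theorem trace_alt_F {i : ℕ} (h1 : 1 ≤ i) (hi : i ≤ D.m + 1) : trace (altMul D.F D.H i) = 0 := by
  rcases Nat.lt_or_ge i (D.m + 1) with h | h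
  · exact D.trace_F i h1 (by omega)
  · obtain rfl : i = D.m + 1 := le_antisymm hi h
    obtain ⟨k, hk⟩ : ∃ k, D.m = k + 1 := ⟨D.m - 1, by have := D.hm; omega⟩
    rw [altMul_succ, ← D.braid, hk, altMul_succ, D.F_sq_left, trace_add, trace_smul, trace_smul,
      ← altMul_succ, ← hk, D.trace_F _ (by have := D.hm; omega) le_rfl,
      D.trace_H k (by have := D.hm; omega) (by omega)]
    simp

theorem trace_alt_H {i : ℕ} (h1 : 1 ≤ i) (hi : i ≤ D.m + 1) : trace (altMul D.H D.F i) = 0 :=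
  D.swap.trace_alt_F h1 hi

theorem trF_zero : D.trF 0 = 0 := by simp [trF, M_zero]

theorem trH_zero : D.trH 0 = 0 := by simp [trH, M_zero]

theorem sig_zero : D.sig 0 = 0 := by simp [sig, M_zero]

theorem sig_one : D.sig 1 = Fintype.card ι := by simp [sig, M_one]

theorem trF_succ {k : ℕ} (hk : 2 * k + 1 ≤ D.m + 1) :
    D.trF (k + 1) = (D.q : ℝ) * D.trH k - (D.q : ℝ) * ((D.r : ℝ) - 1) * D.sig k := by
  rw [trF, D.M_mul_F, trace_sub, trace_add, trace_smul, trace_smul, D.trace_alt_F (by omega) hk]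
  simp [trH, sig]

theorem trH_succ {k : ℕ} (hk : 2 * k + 1 ≤ D.m + 1) :
    D.trH (k + 1) = (D.r : ℝ) * D.trF k - (D.r : ℝ) * ((D.q : ℝ) - 1) * D.sig k := by
  have h := D.swap.trF_succ hk
  rw [sig_swap, swap_trF, swap_trH] at h
  exact h

theorem trace_M_pair {k : ℕ} (hk : 2 * k + 2 ≤ D.m + 1) :
    trace (D.M (k + 1) * (D.F * D.H)) = D.Q * D.sig k := by
  rw [D.M_mul_pair, trace_add, trace_smul, D.trace_alt_F (by omega) hk]
  simp [sig]

/-- The weighted sum occurring in the recursion. -/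
noncomputable def comb (k : ℕ) : ℝ :=
  ((D.q : ℝ) - 1) * D.trH k + ((D.r : ℝ) - 1) * D.trF k

theorem sig_rec {k : ℕ} (hk : 2 * k + 2 ≤ D.m + 1) :
    D.sig (k + 2) = D.Q * D.sig k - D.comb (k + 1) +
      ((D.q : ℝ) - 1) * ((D.r : ℝ) - 1) * D.sig (k + 1) := by
  have h1 := D.trace_M_pair hk
  have h2 := D.swap.trace_M_pair hk
  rw [sig_swap, Q_swap, M_swap] at h2
  replace h2 : trace (D.M (k + 1) * (D.H * D.F)) = D.Q * D.sig k := h2
  rw [sig, M_add_two, (D.commute_M_Z (k + 1)).eq, trace_sub, trace_smul]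
  simp only [Z, mul_add, mul_sub, mul_smul_comm, mul_one, trace_add, trace_sub, trace_smul, smul_eq_mul,
    h1, h2]
  simp only [sig, trF, trH, comb]
  ring

theorem comb_one : D.comb 1 = 0 := by
  have hm := D.hm
  rw [comb, D.trF_succ (k := 0) (by omega), D.trH_succ (k := 0) (by omega)]
  simp [trF_zero, trH_zero, sig_zero]

theorem comb_rec {k : ℕ} (hk : 2 * k + 3 ≤ D.m + 1) :
    D.comb (k + 2) = D.Q * D.comb k - 2 * ((D.q : ℝ) - 1) * ((D.r : ℝ) - 1) * D.Q * D.sig k -
      (((D.q : ℝ) - 1) ^ 2 * D.r + ((D.r : ℝ) - 1) ^ 2 * D.q) * D.sig (k + 1) := by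
  rw [comb, D.trF_succ (k := k + 1) (by omega), D.trH_succ (k := k + 1) (by omega),
    D.trF_succ (k := k) (by omega), D.trH_succ (k := k) (by omega)]
  simp only [comb, Q]
  ring

/-- The polynomial killing the one-dimensional constituents. -/
noncomputable def linPoly : ℝ[X] := (X - C (D.Q + 1)) * (X + C ((D.q : ℝ) + D.r))

/-- The trace of `linPoly` times the `k`-th polynomial. -/
noncomputable def wtr (k : ℕ) : ℝ := trace (aeval D.Z (D.linPoly * cheb D.Q k))

theorem wtr_eq (k : ℕ) : D.wtr k = trace (D.Z * (D.Z * D.M k)) -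
    ((D.Q + 1) - ((D.q : ℝ) + D.r)) * trace (D.Z * D.M k) - (D.Q + 1) * ((D.q : ℝ) + D.r) * D.sig k := by
  rw [wtr, show D.linPoly * cheb D.Q k = X * (X * cheb D.Q k) -
    C ((D.Q + 1) - ((D.q : ℝ) + D.r)) * (X * cheb D.Q k) -
    C ((D.Q + 1) * ((D.q : ℝ) + D.r)) * cheb D.Q k by rw [linPoly]; simp only [map_sub, map_mul]; ring]
  simp only [map_sub, map_mul, aeval_X, aeval_C, Algebra.algebraMap_eq_smul_one, smul_mul_assoc,
    one_mul, trace_sub, trace_smul, trace_add, smul_eq_mul, smul_smul, ← sub_smul, ← add_smul, sig, M]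

theorem wtr_one (hm3 : 3 ≤ D.m) : D.wtr 1 = -(2 * D.Q * Fintype.card ι) := by
  have hm := D.hm
  rw [wtr_eq, M_one, mul_one, ← D.M_two]
  rw [show D.M 2 * D.M 2 = D.M 3 + D.Q • D.M 1 by
    rw [M_two]; exact (congrArg _ D.M_two.symm).trans (D.Z_mul_M 1)]
  rw [trace_add, trace_smul]
  change D.sig 3 + D.Q • D.sig 1 - _ * D.sig 2 - _ = _
  have e2 := D.sig_rec (k := 0) (by omega)
  have e1 : D.comb 1 = 0 := D.comb_one
  rw [e1, sig_zero] at e2
  have e3 := D.sig_rec (k := 1) (by omega)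
  have c2 := D.comb_rec (k := 0) (by omega)
  simp only [sig_zero] at c2
  rw [show D.comb 0 = 0 by simp [comb, trF_zero, trH_zero]] at c2
  rw [e3, c2, e2, sig_one, smul_eq_mul]
  simp only [Q]
  ring

theorem wtr_eq_zero {k : ℕ} (hk : 2 ≤ k) (hk' : 2 * k + 2 ≤ D.m + 1) : D.wtr k = 0 := by
  obtain ⟨j, rfl⟩ : ∃ j, k = j + 2 := ⟨k - 2, by omega⟩
  rw [wtr_eq, D.Z_mul_M, mul_add, mul_smul_comm, D.Z_mul_M, D.Z_mul_M]
  simp only [trace_add, trace_smul, smul_eq_mul]
  change D.sig (j + 4) + D.Q * D.sig (j + 2) + D.Q * (D.sig (j + 2) + D.Q * D.sig j) -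
    _ * (D.sig (j + 3) + D.Q * D.sig (j + 1)) - _ = 0
  have e4 := D.sig_rec (k := j + 2) (by omega)
  have c := D.comb_rec (k := j + 1) (by omega)
  have e2 := D.sig_rec (k := j) (by omega)
  simp only [show j + 2 + 2 = j + 4 by ring, show j + 2 + 1 = j + 3 by ring,
    show j + 1 + 2 = j + 3 by ring, show j + 1 + 1 = j + 2 by ring] at e4 c
  simp only [Q] at *
  linear_combination e4 - c - (D.q : ℝ) * D.r * e2

end CfsgLib.FeitHigman.HeckePair
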